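/-
p-groups `P` with a normal subgroup `T ≥ P'` forming a Camina pair, and a group of automorphisms inducing
a regular abelian group on the non-trivial elements of `P / T`: then `T` is central of exponent `p`.
-/
import Cfsg.Agent.Lib.ClassIndex.Camina
import Cfsg.Agent.Lib.PGroup.Power

set_option autoImplicit false

namespace Cfsg.Agent.OneSeen

open Subgroup
open scoped commutatorElement

/-- The index of a subgroup as the size of the image of a function separating exactly its cosets. -/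
theorem index_eq_card_range {Γ X : Type*} [Group Γ] (H : Subgroup Γ) (F : Γ → X)
    (hF : ∀ a b, F a = F b ↔ a⁻¹ * b ∈ H) : H.index = Nat.card (Set.range F) := by
  rw [Subgroup.index]
  refine Nat.card_congr (Equiv.ofBijective
    (fun q => Quotient.liftOn' q (fun a => (⟨F a, a, rfl⟩ : Set.range F))
      (fun a b hab => Subtype.ext ((hF a b).mpr (QuotientGroup.leftRel_apply.mp hab)))) ⟨?_, ?_⟩)
  · intro u v
    induction u using Quotient.inductionOn' with
    | h a =>
      induction v using Quotient.inductionOn' with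
      | h b =>
        intro e
        exact Quotient.sound' (QuotientGroup.leftRel_apply.mpr ((hF a b).mp (congrArg Subtype.val e)))
  · rintro ⟨_, a, rfl⟩
    exact ⟨Quotient.mk'' a, rfl⟩

/-- An irreducible module of an abelian group of exponent dividing `p ^ f - 1` in characteristic `p`
has order `p ^ j` with `j ∣ f`. -/
theorem card_irreducible {p f : ℕ} [hp : Fact p.Prime] {W : Type*} [CommGroup W] [Finite W]
    (hexp : ∀ w : W, w ^ p = 1) (S : Set (MulAut W)) (hcomm : ∀ a ∈ S, ∀ b ∈ S, Commute a b)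
    (hirr : ∀ U : Subgroup W, (∀ a ∈ S, ∀ u ∈ U, a u ∈ U) → U = ⊥ ∨ U = ⊤)
    (hpow : ∀ a ∈ S, a ^ (p ^ f - 1) = 1) {w : W} (hw : w ≠ 1) :
    ∃ j, Nat.card W = p ^ j ∧ j ∣ f := by
  classical
  let τ : MulAut W →* AddMonoid.End (Additive W) :=
    { toFun := fun a => MonoidHom.toAdditive a.toMonoidHom
      map_one' := by ext x; rfl
      map_mul' := fun a b => by ext x; rfl }
  let gens : Set (AddMonoid.End (Additive W)) := τ '' S
  have hgc : ∀ x ∈ gens, ∀ y ∈ gens, x * y = y * x := by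
    rintro _ ⟨a, ha, rfl⟩ _ ⟨b, hb, rfl⟩
    rw [← map_mul, ← map_mul, (hcomm a ha b hb).eq]
  let R := Subring.closure gens
  letI : CommRing R := Subring.closureCommRingOfComm hgc
  haveI : Finite (AddMonoid.End (Additive W)) :=
    Finite.of_injective (fun g => (g : Additive W → Additive W)) DFunLike.coe_injective
  have hinj : ∀ r : R, r ≠ 0 → ∀ u : Additive W,
      (r : AddMonoid.End (Additive W)) u = 0 → u = 0 := by
    intro r hr
    let U : Subgroup W :=
      { carrier := {u | (r : AddMonoid.End (Additive W)) (Additive.ofMul u) = 0}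
        one_mem' := by simp
        mul_mem' := by
          intro x y hx hy
          simp only [Set.mem_setOf_eq, ofMul_mul, map_add] at *
          rw [hx, hy, add_zero]
        inv_mem' := by
          intro x hx
          simp only [Set.mem_setOf_eq, ofMul_inv, map_neg] at *
          rw [hx, neg_zero] }
    have hU : ∀ a ∈ S, ∀ u ∈ U, a u ∈ U := by
      intro a ha u hu
      have hmem : τ a ∈ R := Subring.subset_closure ⟨a, ha, rfl⟩
      have hc : (r : AddMonoid.End (Additive W)) * τ a = τ a * r :=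
        congrArg Subtype.val (mul_comm r ⟨τ a, hmem⟩)
      show (r : AddMonoid.End (Additive W)) (τ a (Additive.ofMul u)) = 0
      calc (r : AddMonoid.End (Additive W)) (τ a (Additive.ofMul u))
          = ((r : AddMonoid.End (Additive W)) * τ a) (Additive.ofMul u) := rfl
        _ = τ a ((r : AddMonoid.End (Additive W)) (Additive.ofMul u)) := by rw [hc]; rfl
        _ = 0 := by rw [show (r : AddMonoid.End (Additive W)) (Additive.ofMul u) = 0 from hu,
          map_zero]
    rcases hirr U hU with h | h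
    · intro u hu
      have : Additive.toMul u ∈ U := hu
      rw [h, mem_bot] at this
      exact this
    · refine absurd ?_ hr
      refine Subtype.ext (AddMonoidHom.ext fun u => ?_)
      have : Additive.toMul u ∈ U := h ▸ mem_top _
      exact this
  have hev : Function.Bijective
      (fun r : R => (r : AddMonoid.End (Additive W)) (Additive.ofMul w)) := by
    constructor
    · intro a b e
      by_contra hab
      refine hw (hinj (a - b) (sub_ne_zero.mpr hab) (Additive.ofMul w) ?_)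
      show ((a : AddMonoid.End (Additive W)) - b) (Additive.ofMul w) = 0
      exact sub_eq_zero.mpr e
    · let U : Subgroup W :=
        { carrier := {u | ∃ r : R, (r : AddMonoid.End (Additive W)) (Additive.ofMul w) =
            Additive.ofMul u}
          one_mem' := ⟨0, rfl⟩
          mul_mem' := by
            rintro x y ⟨r, hr⟩ ⟨t, ht⟩
            refine ⟨r + t, ?_⟩
            show (r : AddMonoid.End (Additive W)) (Additive.ofMul w) +
              (t : AddMonoid.End (Additive W)) (Additive.ofMul w) = _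
            rw [hr, ht]; rfl
          inv_mem' := by
            rintro x ⟨r, hr⟩
            refine ⟨-r, ?_⟩
            show -((r : AddMonoid.End (Additive W)) (Additive.ofMul w)) = _
            rw [hr]; rfl }
      have hU : ∀ a ∈ S, ∀ u ∈ U, a u ∈ U := by
        rintro a ha u ⟨r, hr⟩
        refine ⟨⟨τ a, Subring.subset_closure ⟨a, ha, rfl⟩⟩ * r, ?_⟩
        show τ a ((r : AddMonoid.End (Additive W)) (Additive.ofMul w)) = _
        rw [hr]; rfl
      rcases hirr U hU with h | h
      · exact absurd (mem_bot.mp (h ▸ (⟨1, rfl⟩ : w ∈ U))) hw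
      · intro u
        obtain ⟨r, hr⟩ := (h ▸ mem_top (Additive.toMul u) : Additive.toMul u ∈ U)
        exact ⟨r, hr⟩
  haveI : Nontrivial R := ⟨⟨0, 1, fun e => hw (by
    have := congrArg (fun r : R => (r : AddMonoid.End (Additive W)) (Additive.ofMul w)) e
    exact this.symm)⟩⟩
  haveI : NoZeroDivisors R := ⟨fun {a b} hab => by
    by_contra h
    rw [not_or] at h
    refine h.2 (Subtype.ext (AddMonoidHom.ext fun u => ?_))
    refine hinj a h.1 _ ?_
    show ((a * b : R) : AddMonoid.End (Additive W)) u = 0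
    rw [hab]; rfl⟩
  haveI : IsDomain R := NoZeroDivisors.to_isDomain R
  haveI hchar : CharP R p := by
    rw [CharP.charP_iff_prime_eq_zero hp.out]
    refine hev.1 ?_
    show ((p : R) : AddMonoid.End (Additive W)) (Additive.ofMul w) = 0
    rw [show ((p : R) : AddMonoid.End (Additive W)) = (p : AddMonoid.End (Additive W)) from
      SubringClass.coe_natCast R p, AddMonoid.End.natCast_apply, ← ofMul_pow, hexp, ofMul_one]
  haveI : ExpChar R p := ExpChar.prime hp.out
  have hfix : ∀ r : R, r ^ p ^ f = r := by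
    rintro ⟨r, hr⟩
    have hpf : p ^ f ≠ 0 := pow_ne_zero _ hp.out.ne_zero
    induction hr using Subring.closure_induction with
    | mem x hx =>
      obtain ⟨a, ha, rfl⟩ := hx
      refine Subtype.ext ?_
      show (τ a) ^ p ^ f = τ a
      rw [← map_pow, show p ^ f = (p ^ f - 1) + 1 by omega, pow_succ, hpow a ha, one_mul]
    | zero => exact zero_pow hpf
    | one => exact one_pow _
    | add x y hx hy ihx ihy =>
      have := map_add (iterateFrobenius R p f) ⟨x, hx⟩ ⟨y, hy⟩
      simp only [iterateFrobenius_def, ihx, ihy] at this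
      exact this
    | neg x hx ih =>
      have := map_neg (iterateFrobenius R p f) ⟨x, hx⟩
      simp only [iterateFrobenius_def, ih] at this
      exact this
    | mul x y hx hy ihx ihy =>
      calc (⟨x * y, _⟩ : R) ^ p ^ f = ((⟨x, hx⟩ : R) * ⟨y, hy⟩) ^ p ^ f := rfl
        _ = _ := by rw [mul_pow, ihx, ihy]; rfl
  obtain ⟨j, hj⟩ := IsPGroup.iff_card.mp (show IsPGroup p W from
    fun x => ⟨1, by rw [pow_one]; exact hexp x⟩)
  have hcard : Nat.card R = p ^ j := by
    rw [Nat.card_congr (Equiv.ofBijective _ hev), ← hj]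
    exact Nat.card_congr Additive.toMul
  refine ⟨j, hj, ?_⟩
  obtain ⟨u, hu⟩ := IsCyclic.exists_generator (α := Rˣ)
  have hord : orderOf u = p ^ j - 1 := by
    rw [orderOf_eq_card_of_forall_mem_zpowers hu]
    letI : Field R := (Finite.isDomain_to_isField R).toField
    rw [Nat.card_units, hcard]
  have h1 : u ^ (p ^ f - 1) = 1 := by
    apply Units.ext
    have hpf := hfix (u : R)
    rw [show p ^ f = (p ^ f - 1) + 1 by
      have := pow_pos hp.out.pos f
      omega, pow_succ] at hpf
    rw [Units.val_pow_eq_pow_val, Units.val_one]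
    exact mul_eq_right₀ (Units.ne_zero u) |>.mp hpf
  have hdvd : p ^ j - 1 ∣ p ^ f - 1 := hord ▸ orderOf_dvd_of_pow_eq_one h1
  have hgcd := Nat.pow_sub_one_gcd_pow_sub_one p j f
  rw [Nat.gcd_eq_left hdvd] at hgcd
  have h2 : Nat.gcd j f = j := by
    have hp1 := hp.out.one_lt
    have e : p ^ Nat.gcd j f = p ^ j := by
      have := pow_pos hp.out.pos j
      have := pow_pos hp.out.pos (Nat.gcd j f)
      omega
    exact Nat.pow_right_injective hp.out.two_le e
  exact h2 ▸ Nat.gcd_dvd_right j f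

theorem commutator_central_mul {G : Type*} [Group G] {a b : G} (ha : ∀ z, Commute a z)
    (hb : ∀ z, Commute b z) (x y : G) : ⁅a * x, b * y⁆ = ⁅x, y⁆ := by
  simp only [commutatorElement_def, mul_inv_rev]
  calc a * x * (b * y) * (x⁻¹ * a⁻¹) * (y⁻¹ * b⁻¹)
      = a * (x * b) * y * x⁻¹ * (a⁻¹ * y⁻¹) * b⁻¹ := by group
    _ = a * (b * x) * y * x⁻¹ * (y⁻¹ * a⁻¹) * b⁻¹ := by
        rw [(hb x).eq, ((ha y⁻¹).inv_left).eq]
    _ = (a * b) * (x * y * x⁻¹ * y⁻¹) * (a⁻¹ * b⁻¹) := by group
    _ = (x * y * x⁻¹ * y⁻¹) * (a * b) * (a⁻¹ * b⁻¹) := by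
        rw [((ha (x * y * x⁻¹ * y⁻¹)).mul_left (hb _)).eq]
    _ = x * y * x⁻¹ * y⁻¹ * (a * b * a⁻¹) * b⁻¹ := by group
    _ = x * y * x⁻¹ * y⁻¹ := by rw [(ha b).eq]; group

theorem mem_center_of_commute {G : Type*} [Group G] {a : G} (h : ∀ z, Commute a z) :
    a ∈ center G := mem_center_iff.mpr fun z => (h z).symm

variable {P : Type*} [Group P] {Γ : Type*} [Group Γ]

/-- The hypotheses on `(P, T, ρ)`. -/
structure RegPair (T : Subgroup P) (ρ : Γ →* MulAut P) (p : ℕ) : Prop where
  le : commutator P ≤ T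
  ne_top : T ≠ ⊤
  cam : Camina.IsCam T
  exp : ∀ x : P, x ^ p ∈ T
  inv : ∀ γ, ∀ t ∈ T, ρ γ t ∈ T
  trans : ∀ x y : P, x ∉ T → y ∉ T → ∃ γ, (ρ γ x)⁻¹ * y ∈ T
  comm : ∀ γ δ (x : P), (ρ (γ * δ) x)⁻¹ * ρ (δ * γ) x ∈ T

variable {T : Subgroup P} {ρ : Γ →* MulAut P} {p : ℕ}

theorem RegPair.exists_not_mem (h : RegPair T ρ p) : ∃ x, x ∉ T := by
  by_contra hh
  rw [not_exists] at hh
  exact h.ne_top (eq_top_iff.mpr fun x _ => not_not.mp (hh x))

theorem RegPair.normal (h : RegPair T ρ p) : T.Normal := ⟨fun t ht g => by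
  have hg : ⁅g, t⁆ ∈ T :=
    h.le (commutator_mem_commutator (mem_top g) (mem_top t))
  have := mul_mem hg ht
  rwa [commutatorElement_def, inv_mul_cancel_right] at this⟩

theorem RegPair.commute_mod (h : RegPair T ρ p) (x y : P) : (x * y)⁻¹ * (y * x) ∈ T := by
  have := h.le (commutator_mem_commutator (mem_top y⁻¹) (mem_top x⁻¹))
  rw [commutatorElement_def, inv_inv, inv_inv, ← mul_inv_rev, mul_assoc] at this
  exact this

/-- Every element of `T` is a commutator with any given element outside `T`. -/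
theorem RegPair.exists_commutator (h : RegPair T ρ p) {x : P} (hx : x ∉ T) {t : P} (ht : t ∈ T) :
    ∃ s, t = ⁅x⁻¹, s⁆ := by
  obtain ⟨s, hs⟩ := h.cam x hx t ht
  refine ⟨s, ?_⟩
  rw [commutatorElement_def, inv_inv, show x⁻¹ * s * x * s⁻¹ = x⁻¹ * (s * x * s⁻¹) by group, hs]
  group

variable [Finite P]

theorem RegPair.card_centralizer (h : RegPair T ρ p) {x : P} (hx : x ∉ T) :
    Nat.card (centralizer ({x} : Set P)) = T.index := by
  haveI := h.normal
  rw [h.cam.card_centralizer_eq hx]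
  have e : centralizer ({(x : P ⧸ T)} : Set (P ⧸ T)) = ⊤ := by
    rw [eq_top_iff]
    intro z _
    rw [mem_centralizer_singleton_iff]
    induction z using QuotientGroup.induction_on with
    | _ y =>
      rw [← QuotientGroup.mk_mul, ← QuotientGroup.mk_mul, QuotientGroup.eq]
      exact h.commute_mod y x
  rw [e, Subgroup.card_top, Subgroup.index]

/-- Central subgroups inside `T` are small. -/
theorem RegPair.card_lt (h : RegPair T ρ p) {U : Subgroup P} (hU : U ≤ center P) (hUT : U ≤ T) :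
    Nat.card U < T.index := by
  obtain ⟨x, hx⟩ := h.exists_not_mem
  rw [← h.card_centralizer hx]
  have hle : U ≤ centralizer ({x} : Set P) := fun u hu => by
    rw [mem_centralizer_singleton_iff]
    exact (mem_center_iff.mp (hU hu) x).symm
  refine lt_of_le_of_ne (Nat.card_mono (Set.toFinite _) hle) fun e => hx (hUT ?_)
  have := Subgroup.eq_of_le_of_card_ge hle e.ge
  rw [this]
  exact mem_centralizer_singleton_iff.mpr rfl

variable [hp : Fact p.Prime]

theorem RegPair.fix_all (h : RegPair T ρ p) {γ : Γ} {x : P} (hx : x ∉ T)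
    (hγ : (ρ γ x)⁻¹ * x ∈ T) (y : P) : (ρ γ y)⁻¹ * y ∈ T := by
  haveI := h.normal
  by_cases hy : y ∈ T
  · exact mul_mem (inv_mem (h.inv γ y hy)) hy
  obtain ⟨δ, hδ⟩ := h.trans x y hx hy
  have e : ∀ a : P, ((ρ γ a : P) : P ⧸ T) = (ρ γ a : P) := fun a => rfl
  have h1 : ((ρ γ y : P) : P ⧸ T) = (ρ (γ * δ) x : P) := by
    rw [QuotientGroup.eq, map_mul]
    have := h.inv γ _ (inv_mem hδ)
    rw [map_inv, map_mul, mul_inv_rev, map_inv, inv_inv] at this
    exact this
  have h2 : ((ρ (γ * δ) x : P) : P ⧸ T) = (ρ (δ * γ) x : P) := QuotientGroup.eq.mpr (h.comm γ δ x)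
  have h3 : ((ρ (δ * γ) x : P) : P ⧸ T) = (ρ δ x : P) := by
    rw [QuotientGroup.eq, map_mul]
    have := h.inv δ _ hγ
    rw [map_mul, map_inv] at this
    exact this
  exact QuotientGroup.eq.mp (h1.trans (h2.trans (h3.trans (QuotientGroup.eq.mpr hδ))))

/-- The case of class at most three: `T` is central. -/
theorem RegPair.central_case (h : RegPair T ρ p) (hP : IsPGroup p P)
    (hc : ∀ t ∈ T, ∀ x : P, ⁅t, x⁆ ∈ center P) : T ≤ center P := by
  classical
  haveI := h.normal
  by_contra hnot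
  obtain ⟨x₀, hx₀⟩ := h.exists_not_mem
  set C := T ⊓ center P with hC
  have hCT : C ≤ T := inf_le_left
  have hCc : C ≤ center P := inf_le_right
  have hCinv : ∀ γ, ∀ c ∈ C, ρ γ c ∈ C := by
    intro γ c hc'
    refine ⟨h.inv γ c hc'.1, mem_center_iff.mpr fun z => ?_⟩
    obtain ⟨z, rfl⟩ := (ρ γ).surjective z
    rw [← map_mul, ← map_mul, mem_center_iff.mp hc'.2 z]
  have hTx : ∀ t ∈ T, ∀ x : P, ⁅t, x⁆ ∈ C := fun t ht x =>
    ⟨h.le (commutator_mem_commutator (mem_top t) (mem_top x)), hc t ht x⟩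
  let φ : P →* P ⧸ C := QuotientGroup.mk' C
  have hφc : ∀ t ∈ T, ∀ z, Commute (φ t) z := by
    intro t ht z
    obtain ⟨z, rfl⟩ := QuotientGroup.mk'_surjective C z
    rw [← commutatorElement_eq_one_iff_commute, ← map_commutatorElement]
    exact (QuotientGroup.eq_one_iff _).mpr (hTx t ht z)
  -- `T` is abelian
  have hTab : ∀ t ∈ T, ∀ u ∈ T, Commute t u := by
    intro t ht u hu
    obtain ⟨s, rfl⟩ := h.exists_commutator hx₀ hu
    have hconj : ∀ z, t * z * t⁻¹ = ⁅t, z⁆ * z := fun z => by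
      simp [commutatorElement_def, mul_assoc]
    have e : t * ⁅x₀⁻¹, s⁆ * t⁻¹ = ⁅x₀⁻¹, s⁆ := by
      have := map_commutatorElement (MulAut.conj t).toMonoidHom x₀⁻¹ s
      simp only [MulEquiv.coe_toMonoidHom, MulAut.conj_apply] at this
      rw [this, hconj, hconj]
      exact commutator_central_mul (fun z => (mem_center_iff.mp (hc t ht _) z).symm)
        (fun z => (mem_center_iff.mp (hc t ht _) z).symm) _ _
    exact mul_inv_eq_iff_eq_mul.mp e
  -- elements acting trivially on `P / T` act trivially on `T / C`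
  have htriv : ∀ γ, (∀ x, (ρ γ x)⁻¹ * x ∈ T) → ∀ t ∈ T, φ (ρ γ t) = φ t := by
    intro γ hγ t ht
    obtain ⟨s, rfl⟩ := h.exists_commutator hx₀ ht
    rw [map_commutatorElement (ρ γ).toMonoidHom x₀⁻¹ s |> fun e => (e : ρ γ ⁅x₀⁻¹, s⁆ = _),
      map_commutatorElement, map_commutatorElement]
    have e : ∀ x, φ (ρ γ x) = φ ((ρ γ x * x⁻¹)) * φ x := fun x => by
      rw [← map_mul, inv_mul_cancel_right]
    have hmem : ∀ x, ρ γ x * x⁻¹ ∈ T := fun x => by
      have := inv_mem (h.normal.conj_mem _ (hγ x) x)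
      simpa [mul_assoc] using this
    show ⁅φ (ρ γ x₀⁻¹), φ (ρ γ s)⁆ = ⁅φ x₀⁻¹, φ s⁆
    rw [e x₀⁻¹, e s]
    exact commutator_central_mul (hφc _ (hmem _)) (hφc _ (hmem _)) _ _
  -- a minimal invariant subgroup above `C`
  have hCltT : C < T := lt_of_le_of_ne hCT fun e => hnot (e ▸ hCc)
  obtain ⟨J, hJ, hJmin⟩ := (Set.toFinite
    {J : Subgroup P | C < J ∧ J ≤ T ∧ ∀ γ, ∀ j ∈ J, ρ γ j ∈ J}).exists_minimal
      ⟨T, hCltT, le_rfl, h.inv⟩
  obtain ⟨hCJ, hJT, hJinv⟩ := hJ
  obtain ⟨w, hwJ, hwC⟩ := SetLike.exists_of_lt hCJ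
  let W := J.map φ
  have hWmem : ∀ {v}, v ∈ W ↔ ∃ j ∈ J, φ j = v := fun {v} => Subgroup.mem_map
  have hWc : ∀ a ∈ W, ∀ z, Commute a z := by
    rintro _ ⟨j, hj, rfl⟩ z
    exact hφc j (hJT hj) z
  letI : CommGroup W := { (inferInstance : Group W) with
    mul_comm := fun a b => Subtype.ext (hWc a a.2 b).eq }
  have hWexp : ∀ a : W, a ^ p = 1 := by
    rintro ⟨_, j, hj, rfl⟩
    obtain ⟨s, rfl⟩ := h.exists_commutator hx₀ (hJT hj)
    refine Subtype.ext ?_
    show (φ ⁅x₀⁻¹, s⁆) ^ p = 1
    rw [map_commutatorElement, ← PGroup.commutator_pow_left (G := P ⧸ C), ← map_pow]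
    · exact commutatorElement_eq_one_iff_commute.mpr (hφc _ (h.exp _) _)
    · rw [← map_commutatorElement]
      exact (hφc _ (hJT hj) _).symm
  have hker : ∀ {γ : Γ} {a b : P}, φ a = φ b → φ (ρ γ a) = φ (ρ γ b) := by
    intro γ a b e
    have h1 : (a : P ⧸ C) = b := e
    show ((ρ γ a : P) : P ⧸ C) = (ρ γ b : P)
    rw [QuotientGroup.eq] at h1 ⊢
    have := hCinv γ _ h1
    rwa [map_mul, map_inv] at this
  -- the maps induced on `W`
  let S : Set (MulAut W) :=
    {a | ∃ γ, ∀ j (hj : j ∈ J), ((a ⟨φ j, mem_map_of_mem φ hj⟩ : W) : P ⧸ C) = φ (ρ γ j)}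
  have hS : ∀ γ, ∃ a ∈ S, ∀ j (hj : j ∈ J),
      ((a ⟨φ j, mem_map_of_mem φ hj⟩ : W) : P ⧸ C) = φ (ρ γ j) := by
    intro γ
    have hrep : ∀ a : W, ∃ j ∈ J, φ j = (a : P ⧸ C) := fun a => a.2
    choose r hrJ hr using hrep
    have hwd : ∀ (a : W) (j : P), φ j = (a : P ⧸ C) → φ (ρ γ (r a)) = φ (ρ γ j) :=
      fun a j hj => hker ((hr a).trans hj.symm)
    let a₀ : W →* W :=
      { toFun := fun a => ⟨φ (ρ γ (r a)), mem_map_of_mem φ (hJinv γ _ (hrJ a))⟩
        map_one' := Subtype.ext ((hwd 1 1 (map_one φ)).trans (by rw [map_one, map_one]; rfl))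
        map_mul' := fun a b => Subtype.ext ((hwd (a * b) (r a * r b)
          (by rw [map_mul, hr, hr]; rfl)).trans (by rw [map_mul, map_mul]; rfl)) }
    have hinj : Function.Injective a₀ := by
      intro a b e
      have e' : φ (ρ γ (r a)) = φ (ρ γ (r b)) := congrArg Subtype.val e
      have := hker (γ := γ⁻¹) e'
      rw [← MulAut.mul_apply, ← map_mul, inv_mul_cancel, map_one, ← MulAut.mul_apply, ← map_mul,
        inv_mul_cancel, map_one, MulAut.one_apply, MulAut.one_apply, hr, hr] at this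
      exact Subtype.ext this
    let a₁ : MulAut W := MulEquiv.ofBijective a₀ (Finite.injective_iff_bijective.mp hinj)
    have ha : ∀ j (hj : j ∈ J),
        ((a₁ ⟨φ j, mem_map_of_mem φ hj⟩ : W) : P ⧸ C) = φ (ρ γ j) := fun j hj => hwd _ j rfl
    exact ⟨a₁, ⟨γ, ha⟩, ha⟩
  have hcommW : ∀ a ∈ S, ∀ b ∈ S, Commute a b := by
    rintro a ⟨γ, hγ⟩ b ⟨δ, hδ⟩
    refine MulEquiv.ext fun v => Subtype.ext ?_
    obtain ⟨j, hj, hjv⟩ := v.2
    obtain rfl : v = ⟨φ j, mem_map_of_mem φ hj⟩ := Subtype.ext hjv.symm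
    rw [MulAut.mul_apply, MulAut.mul_apply]
    have e1 : b ⟨φ j, mem_map_of_mem φ hj⟩ = ⟨φ (ρ δ j), mem_map_of_mem φ (hJinv δ j hj)⟩ :=
      Subtype.ext (hδ j hj)
    have e2 : a ⟨φ j, mem_map_of_mem φ hj⟩ = ⟨φ (ρ γ j), mem_map_of_mem φ (hJinv γ j hj)⟩ :=
      Subtype.ext (hγ j hj)
    rw [e1, e2, hγ _ (hJinv δ j hj), hδ _ (hJinv γ j hj)]
    have hk : ∀ x, (ρ ((δ * γ)⁻¹ * (γ * δ)) x)⁻¹ * x ∈ T := by
      intro x
      have := h.inv (δ * γ)⁻¹ _ (h.comm γ δ x)
      rw [map_mul (ρ (δ * γ)⁻¹), map_inv (ρ (δ * γ)⁻¹), ← MulAut.mul_apply, ← map_mul,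
        ← MulAut.mul_apply, ← map_mul, inv_mul_cancel, map_one] at this
      exact this
    have := hker (γ := δ * γ) (htriv _ hk j (hJT hj))
    rw [← MulAut.mul_apply, ← map_mul, mul_inv_cancel_left, map_mul, map_mul, MulAut.mul_apply,
      MulAut.mul_apply] at this
    exact this
  -- orbits on `(P / T) \ 1`
  obtain ⟨f, hf⟩ : ∃ f, T.index = p ^ f := IsPGroup.iff_card.mp (hP.to_quotient T)
  let K0 : Subgroup Γ :=
    { carrier := {γ | (ρ γ x₀)⁻¹ * x₀ ∈ T}
      one_mem' := by simp
      mul_mem' := by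
        intro a b ha hb
        show (ρ (a * b) x₀)⁻¹ * x₀ ∈ T
        have := mul_mem (h.inv a _ hb) ha
        rw [map_mul, map_inv] at this
        rw [map_mul, MulAut.mul_apply]
        simpa [mul_assoc] using this
      inv_mem' := by
        intro a ha
        show (ρ a⁻¹ x₀)⁻¹ * x₀ ∈ T
        have := inv_mem (h.inv a⁻¹ _ ha)
        rw [map_mul (ρ a⁻¹), map_inv (ρ a⁻¹), ← MulAut.mul_apply, ← map_mul, inv_mul_cancel,
          map_one, MulAut.one_apply, mul_inv_rev, inv_inv] at this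
        exact this }
  have hK0all : ∀ γ ∈ K0, ∀ x, (ρ γ x)⁻¹ * x ∈ T := fun γ hγ => h.fix_all hx₀ hγ
  have hK0n : K0.Normal := ⟨fun k hk g => by
    show (ρ (g * k * g⁻¹) x₀)⁻¹ * x₀ ∈ T
    have := h.inv g _ (hK0all k hk (ρ g⁻¹ x₀))
    rw [map_mul, map_inv, ← MulAut.mul_apply, ← map_mul, ← MulAut.mul_apply, ← map_mul,
      ← MulAut.mul_apply, ← map_mul, mul_inv_cancel, map_one, MulAut.one_apply] at this
    exact this⟩
  have hK0 : K0.index = p ^ f - 1 := by
    rw [index_eq_card_range K0 (fun γ => ((ρ γ x₀ : P) : P ⧸ T)) ?_]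
    · have : Set.range (fun γ => ((ρ γ x₀ : P) : P ⧸ T)) = {1}ᶜ := by
        ext v
        constructor
        · rintro ⟨γ, rfl⟩ hv
          have := h.inv γ⁻¹ _ ((QuotientGroup.eq_one_iff _).mp hv)
          rw [← MulAut.mul_apply, ← map_mul, inv_mul_cancel, map_one, MulAut.one_apply] at this
          exact hx₀ this
        · intro hv
          induction v using QuotientGroup.induction_on with
          | _ y =>
            obtain ⟨γ, hγ⟩ := h.trans x₀ y hx₀ fun hy => hv ((QuotientGroup.eq_one_iff y).mpr hy)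
            exact ⟨γ, QuotientGroup.eq.mpr hγ⟩
      rw [this, Nat.card_coe_set_eq, Set.ncard_compl, Set.ncard_singleton, ← hf, Subgroup.index]
    · intro a b
      constructor
      · intro e
        have := inv_mem (h.inv a⁻¹ _ (QuotientGroup.eq.mp e))
        rw [map_mul (ρ a⁻¹), map_inv (ρ a⁻¹), ← MulAut.mul_apply, ← map_mul, ← MulAut.mul_apply,
          ← map_mul, inv_mul_cancel, map_one, MulAut.one_apply, mul_inv_rev, inv_inv] at this
        exact this
      · intro e
        have := inv_mem (h.inv a _ e)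
        rw [map_mul (ρ a), map_inv (ρ a), ← MulAut.mul_apply, ← map_mul, mul_inv_cancel_left,
          mul_inv_rev, inv_inv] at this
        exact QuotientGroup.eq.mpr this
  have hpowS : ∀ a ∈ S, a ^ (p ^ f - 1) = 1 := by
    rintro a ⟨γ, hγ⟩
    have hpow : ∀ n : ℕ, ∀ j (hj : j ∈ J),
        (((a ^ n) ⟨φ j, mem_map_of_mem φ hj⟩ : W) : P ⧸ C) = φ (ρ (γ ^ n) j) := by
      intro n
      induction n with
      | zero => intro j hj; simp
      | succ n ih =>
        intro j hj
        have e : a ⟨φ j, mem_map_of_mem φ hj⟩ = ⟨φ (ρ γ j), mem_map_of_mem φ (hJinv γ j hj)⟩ :=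
          Subtype.ext (hγ j hj)
        rw [pow_succ, MulAut.mul_apply, e, ih _ (hJinv γ j hj), pow_succ, map_mul,
          MulAut.mul_apply]
    have hk : γ ^ (p ^ f - 1) ∈ K0 := by
      have := hK0n
      rw [← hK0, ← QuotientGroup.eq_one_iff, QuotientGroup.mk_pow, Subgroup.index]
      exact pow_card_eq_one'
    refine MulEquiv.ext fun v => Subtype.ext ?_
    obtain ⟨j, hj, hjv⟩ := v.2
    obtain rfl : v = ⟨φ j, mem_map_of_mem φ hj⟩ := Subtype.ext hjv.symm
    rw [hpow _ j hj, MulAut.one_apply]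
    exact htriv _ (hK0all _ hk) j (hJT hj)
  have hirr : ∀ U : Subgroup W, (∀ a ∈ S, ∀ u ∈ U, a u ∈ U) → U = ⊥ ∨ U = ⊤ := by
    intro U hU
    let J' : Subgroup P := ((U.map W.subtype).comap φ) ⊓ J
    rcases (lt_or_eq_of_le (show C ≤ J' from fun c hc' => ⟨⟨1, one_mem _,
        ((QuotientGroup.eq_one_iff c).mpr hc').symm⟩, hCJ.le hc'⟩)) with hlt | he
    · right
      have hJ' : J ≤ J' := hJmin ⟨hlt, inf_le_right.trans hJT, fun γ j hj => by
        refine ⟨?_, hJinv γ j hj.2⟩
        obtain ⟨a, ha, haj⟩ := hS γ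
        obtain ⟨u, hu, e⟩ := hj.1
        refine ⟨a u, hU a ha u hu, ?_⟩
        have : u = ⟨φ j, mem_map_of_mem φ hj.2⟩ := Subtype.ext e
        rw [this]
        exact haj j hj.2⟩ inf_le_right
      rw [eq_top_iff]
      rintro v -
      obtain ⟨j, hj, hjv⟩ := v.2
      obtain ⟨u, hu, e⟩ := (hJ' hj).1
      exact (Subtype.ext (e.trans hjv) : u = v) ▸ hu
    · left
      rw [eq_bot_iff]
      intro u hu
      obtain ⟨j, hj, hju⟩ := u.2
      have : j ∈ J' := ⟨⟨u, hu, hju.symm⟩, hj⟩
      rw [← he] at this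
      exact mem_bot.mpr (Subtype.ext (hju.symm.trans ((QuotientGroup.eq_one_iff j).mpr this)))
  have hw1 : (⟨φ w, mem_map_of_mem φ hwJ⟩ : W) ≠ 1 := fun e =>
    hwC ((QuotientGroup.eq_one_iff w).mp (congrArg Subtype.val e))
  obtain ⟨j, hj, hjf⟩ := card_irreducible (f := f) hWexp S hcommW hirr hpowS hw1
  -- `|W| < |P : T|`
  have hWlt : Nat.card W < p ^ f := by
    obtain ⟨x, hx⟩ := h.exists_not_mem
    have hpre : ∀ z, φ z ∈ T.map φ ↔ z ∈ T := fun z => by
      refine ⟨?_, mem_map_of_mem φ⟩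
      rintro ⟨t, ht, e⟩
      have h1 : (t : P ⧸ C) = z := e
      have := mul_mem ht (hCT (QuotientGroup.eq.mp h1))
      rwa [mul_inv_cancel_left] at this
    have hcamq : Camina.IsCam (T.map φ) := by
      intro a ha n hn
      obtain ⟨a, rfl⟩ := QuotientGroup.mk'_surjective C a
      obtain ⟨m, hm, rfl⟩ := hn
      obtain ⟨s, hs⟩ := h.cam a (fun ha' => ha (mem_map_of_mem φ ha')) m hm
      exact ⟨φ s, by rw [← map_inv, ← map_mul, ← map_mul, hs, map_mul]⟩
    haveI : (T.map φ).Normal := h.normal.map φ (QuotientGroup.mk'_surjective C)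
    have hc2 : Nat.card (centralizer ({φ x} : Set (P ⧸ C))) = (T.map φ).index := by
      rw [hcamq.card_centralizer_eq (fun hh => hx ((hpre x).mp hh))]
      have e : centralizer ({(φ x : (P ⧸ C) ⧸ T.map φ)} : Set ((P ⧸ C) ⧸ T.map φ)) = ⊤ := by
        rw [eq_top_iff]
        intro z _
        rw [mem_centralizer_singleton_iff]
        induction z using QuotientGroup.induction_on with
        | _ y =>
          obtain ⟨y, rfl⟩ := QuotientGroup.mk'_surjective C y
          rw [← QuotientGroup.mk_mul, ← QuotientGroup.mk_mul, QuotientGroup.eq, ← map_mul,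
            ← map_mul, ← map_inv, ← map_mul]
          exact mem_map_of_mem φ (h.commute_mod y x)
      rw [e, Subgroup.card_top, Subgroup.index]
    have hlt : W < centralizer ({φ x} : Set (P ⧸ C)) := by
      refine lt_of_le_of_ne (fun a ha => mem_centralizer_singleton_iff.mpr (hWc a ha _).eq)
        fun e => ?_
      have hxW : φ x ∈ W := e ▸ mem_centralizer_singleton_iff.mpr rfl
      exact hx ((hpre x).mp (Subgroup.map_mono hJT hxW))
    calc Nat.card W < Nat.card (centralizer ({φ x} : Set (P ⧸ C))) := by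
          refine lt_of_le_of_ne (Nat.card_mono (Set.toFinite _) hlt.le) fun e => hlt.ne
            (Subgroup.eq_of_le_of_card_ge hlt.le e.ge)
      _ = p ^ f := by
          rw [hc2, index_map_eq _ (QuotientGroup.mk'_surjective C)
            (by rw [QuotientGroup.ker_mk']; exact hCT), hf]
  have hp1 := hp.out.one_lt
  rw [hj] at hWlt
  have h2j : 2 * j ≤ f := by
    have hlt := (Nat.pow_lt_pow_iff_right hp1).mp hWlt
    obtain ⟨c, rfl⟩ := hjf
    rcases c with _ | _ | c
    · omega
    · omega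
    · nlinarith
  -- the stabilizer of `w` modulo `C`
  let T0 : Subgroup Γ :=
    { carrier := {γ | φ (ρ γ w) = φ w}
      one_mem' := by simp
      mul_mem' := by
        intro a b ha hb
        show φ (ρ (a * b) w) = φ w
        rw [map_mul, MulAut.mul_apply, hker (γ := a) hb, ha]
      inv_mem' := by
        intro a ha
        show φ (ρ a⁻¹ w) = φ w
        have := hker (γ := a⁻¹) ha
        rw [← MulAut.mul_apply, ← map_mul, inv_mul_cancel, map_one, MulAut.one_apply] at this
        exact this.symm }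
  have hK0T0 : K0 ≤ T0 := fun γ hγ => htriv γ (hK0all γ hγ) w (hJT hwJ)
  have hT0 : T0.index ≤ p ^ j - 1 := by
    rw [index_eq_card_range T0 (fun γ => φ (ρ γ w)) ?_]
    · have hsub : Set.range (fun γ => φ (ρ γ w)) ⊆ (W : Set (P ⧸ C)) \ {1} := by
        rintro _ ⟨γ, rfl⟩
        refine ⟨mem_map_of_mem φ (hJinv γ w hwJ), fun e => hwC ?_⟩
        have e1 : φ (ρ γ w) = 1 := e
        have := hCinv γ⁻¹ _ ((QuotientGroup.eq_one_iff _).mp e1)
        rwa [← MulAut.mul_apply, ← map_mul, inv_mul_cancel, map_one, MulAut.one_apply] at this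
      have h1 := Set.ncard_le_ncard hsub (Set.toFinite _)
      rw [Set.ncard_sdiff (Set.singleton_subset_iff.mpr (one_mem W)), Set.ncard_singleton,
        ← Nat.card_coe_set_eq, ← Nat.card_coe_set_eq] at h1
      exact h1.trans (Nat.sub_le_sub_right hj.le 1)
    · intro a b
      show _ ↔ φ (ρ (a⁻¹ * b) w) = φ w
      rw [map_mul, MulAut.mul_apply]
      constructor
      · intro e
        have := hker (γ := a⁻¹) e
        rw [← MulAut.mul_apply, ← map_mul, inv_mul_cancel, map_one, MulAut.one_apply] at this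
        exact this.symm
      · intro e
        have := hker (γ := a) e
        rw [show ρ a (ρ a⁻¹ (ρ b w)) = ρ b w from by
          rw [← MulAut.mul_apply, ← map_mul, mul_inv_cancel, map_one, MulAut.one_apply]] at this
        exact this.symm
  -- the commutator map with `w`
  let δ : P →* P :=
    { toFun := fun x => ⁅x, w⁆
      map_one' := commutatorElement_one_left w
      map_mul' := fun x y => by
        have hy : Commute x ⁅y, w⁆ := by
          have := hc w (hJT hwJ) y
          rw [← commutatorElement_inv]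
          exact Commute.inv_right (show Commute x ⁅w, y⁆ from mem_center_iff.mp this x)
        rw [PGroup.commutator_mul_left hy]
        have h1 := mem_center_iff.mp (inv_mem (hc w (hJT hwJ) y)) ⁅x, w⁆
        rw [commutatorElement_inv] at h1
        exact h1.symm }
  have hδ : ∀ x, δ x = ⁅x, w⁆ := fun x => rfl
  have hTL : T ≤ δ.ker := fun t ht =>
    commutatorElement_eq_one_iff_commute.mpr (hTab t ht w (hJT hwJ))
  have hLne : δ.ker ≠ ⊤ := fun e => hwC ⟨hJT hwJ, mem_center_of_commute fun z =>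
    (commutatorElement_eq_one_iff_commute.mp
      (show δ z = 1 from (e ▸ mem_top z : z ∈ δ.ker))).symm⟩
  have hLinv : ∀ γ ∈ T0, ∀ x ∈ δ.ker, ρ γ x ∈ δ.ker := by
    intro γ hγ x hx
    obtain ⟨c, hc', e⟩ : ∃ c ∈ C, ρ γ w = w * c :=
      ⟨w⁻¹ * ρ γ w, QuotientGroup.eq.mp (show (w : P ⧸ C) = (ρ γ w : P) from Eq.symm hγ), by group⟩
    show ⁅ρ γ x, w⁆ = 1
    rw [commutatorElement_eq_one_iff_commute]
    have h1 : Commute (ρ γ x) (ρ γ w) :=
      (commutatorElement_eq_one_iff_commute.mp (show δ x = 1 from hx)).map (ρ γ)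
    have h2 : Commute (ρ γ x) c⁻¹ := mem_center_iff.mp (inv_mem (hCc hc')) _
    have := h1.mul_right h2
    rwa [e, mul_inv_cancel_right] at this
  rcases lt_or_eq_of_le hTL with hlt | heq
  · obtain ⟨L0, hL0, hL0min⟩ := (Set.toFinite
      {L : Subgroup P | T < L ∧ L ≤ δ.ker ∧ ∀ γ ∈ T0, ∀ l ∈ L, ρ γ l ∈ L}).exists_minimal
        ⟨δ.ker, hlt, le_rfl, hLinv⟩
    obtain ⟨hTL0, hL0L, hL0inv⟩ := hL0
    obtain ⟨x, hxL, hxT⟩ := SetLike.exists_of_lt hTL0
    obtain ⟨y, hy⟩ : ∃ y, y ∉ L0 := by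
      by_contra hh
      rw [not_exists] at hh
      exact hLne (eq_top_iff.mpr fun y _ => hL0L (not_not.mp (hh y)))
    obtain ⟨γ, hγ⟩ := h.trans x y hxT fun hyT => hy (hTL0.le hyT)
    set L1 := L0.map (ρ γ).toMonoidHom with hL1
    have hTL1 : T ≤ L1 := fun t ht => ⟨ρ γ⁻¹ t, hTL0.le (h.inv γ⁻¹ t ht), by
      show ρ γ (ρ γ⁻¹ t) = t
      rw [← MulAut.mul_apply, ← map_mul, mul_inv_cancel, map_one, MulAut.one_apply]⟩
    have hyL1 : y ∈ L1 := by
      have := mul_mem (show ρ γ x ∈ L1 from ⟨x, hxL, rfl⟩) (hTL1 hγ)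
      rwa [mul_inv_cancel_left] at this
    have hL1inv : ∀ η ∈ T0, ∀ l ∈ L1, ρ η l ∈ L1 := by
      rintro η hη _ ⟨l, hl, rfl⟩
      have h1 := h.comm γ η l
      rw [map_mul, map_mul, MulAut.mul_apply, MulAut.mul_apply] at h1
      have := mul_mem (show ρ γ (ρ η l) ∈ L1 from ⟨_, hL0inv η hη l hl, rfl⟩) (hTL1 h1)
      rwa [mul_inv_cancel_left] at this
    have hinf : L0 ⊓ L1 = T := by
      by_contra hne
      have h1 : L0 ≤ L0 ⊓ L1 := hL0min ⟨lt_of_le_of_ne (le_inf hTL0.le hTL1) (Ne.symm hne),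
        inf_le_left.trans hL0L, fun η hη l hl => ⟨hL0inv η hη l hl.1, hL1inv η hη l hl.2⟩⟩
        inf_le_left
      have : L0 = L1 := Subgroup.eq_of_le_of_card_ge (h1.trans inf_le_right)
        (by rw [hL1, Subgroup.card_map_of_injective (ρ γ).injective])
      exact hy (this ▸ hyL1)
    let π := QuotientGroup.mk' T
    set M0 := L0.map π with hM0
    have hπ : ∀ {L : Subgroup P}, T ≤ L → ∀ z, π z ∈ L.map π ↔ z ∈ L := fun {L} hL z => by
      refine ⟨?_, mem_map_of_mem π⟩
      rintro ⟨l, hl, e⟩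
      have h1 : (l : P ⧸ T) = z := e
      have := mul_mem hl (hL (QuotientGroup.eq.mp h1))
      rwa [mul_inv_cancel_left] at this
    have hcard0 : Nat.card M0 = T.relIndex L0 := by
      rw [← Subgroup.relIndex_bot_left, ← Subgroup.relIndex_comap,
        show (⊥ : Subgroup (P ⧸ T)).comap π = T from QuotientGroup.ker_mk' T]
    have hcard1 : Nat.card (L1.map π) = T.relIndex L1 := by
      rw [← Subgroup.relIndex_bot_left, ← Subgroup.relIndex_comap,
        show (⊥ : Subgroup (P ⧸ T)).comap π = T from QuotientGroup.ker_mk' T]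
    have hrel : T.relIndex L1 = T.relIndex L0 := by
      have e0 := Subgroup.relIndex_mul_index hTL0.le
      have e1 := Subgroup.relIndex_mul_index hTL1
      have hi : L1.index = L0.index := by
        have h0 := L0.index_mul_card
        have h1 := L1.index_mul_card
        rw [show Nat.card L1 = Nat.card L0 from
          Subgroup.card_map_of_injective (ρ γ).injective] at h1
        exact Nat.eq_of_mul_eq_mul_right Nat.card_pos (h1.trans h0.symm)
      rw [hi] at e1
      exact Nat.eq_of_mul_eq_mul_right (Nat.pos_of_ne_zero L0.index_ne_zero_of_finite)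
        (e1.trans e0.symm)
    have hM01 : Nat.card M0 * Nat.card M0 ≤ p ^ f := by
      nth_rw 2 [hcard0]
      rw [← hrel, ← hcard1, ← Nat.card_prod, ← hf, Subgroup.index]
      refine Nat.card_le_card_of_injective
        (fun z : M0 × (L1.map π) => (z.1 : P ⧸ T) * z.2) ?_
      rintro ⟨a, b⟩ ⟨a', b'⟩ e
      have e' : (a : P ⧸ T) * b = a' * b' := e
      have hmem : (a' : P ⧸ T)⁻¹ * a = b' * (b : P ⧸ T)⁻¹ := by
        rw [eq_mul_inv_iff_mul_eq, mul_assoc, e', inv_mul_cancel_left]
      obtain ⟨z, hz⟩ := QuotientGroup.mk'_surjective T ((a' : P ⧸ T)⁻¹ * a)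
      have hz0 : z ∈ L0 := (hπ hTL0.le z).mp (by
        show π z ∈ M0
        rw [show π z = _ from hz]; exact mul_mem (inv_mem a'.2) a.2)
      have hz1 : z ∈ L1 := (hπ hTL1 z).mp (by
        rw [show π z = _ from hz, hmem]; exact mul_mem b'.2 (inv_mem b.2))
      have hz2 : z ∈ T := hinf ▸ ⟨hz0, hz1⟩
      have h1 : (a' : P ⧸ T)⁻¹ * a = 1 := by
        rw [← hz]; exact (QuotientGroup.eq_one_iff z).mpr hz2
      have ha : a = a' := Subtype.ext (inv_mul_eq_one.mp h1).symm
      subst ha
      exact Prod.ext rfl (Subtype.ext (mul_left_cancel e'))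
    have hT0K0 : K0.relIndex T0 ≤ Nat.card M0 - 1 := by
      rw [Subgroup.relIndex, index_eq_card_range (K0.subgroupOf T0)
        (fun η : T0 => π (ρ (η : Γ) x)) ?_]
      · have hsub : Set.range (fun η : T0 => π (ρ (η : Γ) x)) ⊆ (M0 : Set (P ⧸ T)) \ {1} := by
          rintro _ ⟨η, rfl⟩
          refine ⟨mem_map_of_mem π (hL0inv η η.2 x hxL), fun e => hxT ?_⟩
          have e1 : ((ρ (η : Γ) x : P) : P ⧸ T) = 1 := e
          have := h.inv (η : Γ)⁻¹ _ ((QuotientGroup.eq_one_iff _).mp e1)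
          rwa [← MulAut.mul_apply, ← map_mul, inv_mul_cancel, map_one, MulAut.one_apply] at this
        have h1 := Set.ncard_le_ncard hsub (Set.toFinite _)
        rw [Set.ncard_sdiff (Set.singleton_subset_iff.mpr (one_mem M0)), Set.ncard_singleton,
          ← Nat.card_coe_set_eq, ← Nat.card_coe_set_eq] at h1
        exact h1
      · intro a b
        show ((ρ (a : Γ) x : P) : P ⧸ T) = (ρ (b : Γ) x : P) ↔ (a⁻¹ * b : T0) ∈ K0.subgroupOf T0
        rw [Subgroup.mem_subgroupOf, QuotientGroup.eq]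
        constructor
        · intro e
          have := inv_mem (h.inv (a : Γ)⁻¹ _ e)
          rw [map_mul (ρ (a : Γ)⁻¹), map_inv (ρ (a : Γ)⁻¹), ← MulAut.mul_apply, ← map_mul,
            ← MulAut.mul_apply, ← map_mul, inv_mul_cancel, map_one, MulAut.one_apply, mul_inv_rev,
            inv_inv] at this
          exact h.fix_all hxT this x₀
        · intro e
          have := inv_mem (h.inv (a : Γ) _ (hK0all _ e x))
          rw [map_mul (ρ (a : Γ)), map_inv (ρ (a : Γ)), ← MulAut.mul_apply, ← map_mul,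
            Subgroup.coe_mul, Subgroup.coe_inv, mul_inv_cancel_left, mul_inv_rev, inv_inv] at this
          exact this
    have htot := Subgroup.relIndex_mul_index hK0T0
    rw [hK0] at htot
    have hjj : p ^ j * p ^ j ≤ p ^ f := by
      rw [← pow_add]; exact Nat.pow_le_pow_right hp.out.pos (by omega)
    have hle : p ^ f - 1 ≤ (Nat.card M0 - 1) * (p ^ j - 1) := htot ▸ Nat.mul_le_mul hT0K0 hT0
    have h0 : 0 < Nat.card M0 := Nat.card_pos
    have h1 : 2 ≤ p ^ f := by
      have : 0 < f := by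
        rcases Nat.eq_zero_or_pos f with rfl | hf0
        · simp at hWlt
          exact absurd hWlt.1 hp.out.ne_zero
        · exact hf0
      calc 2 ≤ p := hp.out.two_le
        _ = p ^ 1 := (pow_one p).symm
        _ ≤ p ^ f := Nat.pow_le_pow_right hp.out.pos this
    obtain ⟨a, ha⟩ : ∃ a, Nat.card M0 = a + 1 := ⟨_, (Nat.succ_pred_eq_of_pos h0).symm⟩
    obtain ⟨b, hb⟩ : ∃ b, p ^ j = b + 1 :=
      ⟨_, (Nat.succ_pred_eq_of_pos (pow_pos hp.out.pos j)).symm⟩
    obtain ⟨c, hc0⟩ : ∃ c, p ^ f = c + 2 := ⟨p ^ f - 2, by omega⟩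
    rw [ha] at hM01 hle
    rw [hb] at hjj hle
    rw [hc0] at hM01 hjj hle
    simp only [Nat.add_sub_cancel] at hle
    rw [show c + 2 - 1 = c + 1 from rfl] at hle
    nlinarith [two_mul_le_add_sq a b, Nat.zero_le a, Nat.zero_le b]
  · -- the commutator map is injective modulo `T`
    have hsub : (δ.range : Set P) ⊆ (centralizer ({x₀} : Set P) : Set P) ∩ T := by
      rintro _ ⟨x, rfl⟩
      rw [hδ]
      refine ⟨?_, h.le (commutator_mem_commutator (mem_top x) (mem_top w))⟩
      have h1 := mem_center_iff.mp (inv_mem (hc w (hJT hwJ) x)) x₀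
      rw [commutatorElement_inv] at h1
      exact mem_centralizer_singleton_iff.mpr h1.symm
    have hcard : Nat.card δ.range = T.index := by
      rw [← Subgroup.index_ker, ← heq]
    have hlt : δ.range < centralizer ({x₀} : Set P) :=
      lt_of_le_of_ne (fun z hz => (hsub hz).1) fun e =>
        hx₀ (hsub (show x₀ ∈ (δ.range : Set P) from e ▸ mem_centralizer_singleton_iff.mpr rfl)).2
    refine hlt.ne (Subgroup.eq_of_le_of_card_ge hlt.le ?_)
    rw [hcard, h.card_centralizer hx₀]

omit [Finite P] hp in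
theorem eq_bot_of_commutator_eq [Group.IsNilpotent P] {M : Subgroup P}
    (h : M ≤ ⁅M, (⊤ : Subgroup P)⁆) : M = ⊥ := by
  obtain ⟨n, hn⟩ := (Subgroup.nilpotent_iff_lowerCentralSeries (G := P)).mp inferInstance
  have : ∀ n, M ≤ (⊤ : Subgroup P).lowerCentralSeries n := by
    intro n
    induction n with
    | zero => rw [Subgroup.lowerCentralSeries_zero]; exact le_top
    | succ n ih => exact h.trans (Subgroup.commutator_mono ih le_rfl)
  exact le_bot_iff.mp ((this n).trans hn.le)

/-- `T` is central. -/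
theorem RegPair.le_center (h : RegPair T ρ p) (hP : IsPGroup p P) : T ≤ center P := by
  haveI := hP.isNilpotent
  haveI := h.normal
  set M := ⁅T, (⊤ : Subgroup P)⁆ with hM
  set L := ⁅M, (⊤ : Subgroup P)⁆ with hL
  have hMT : M ≤ T := Subgroup.commutator_le_left T ⊤
  have hLT : L ≤ T := (Subgroup.commutator_le_left M ⊤).trans hMT
  have hMinv : ∀ γ, M.map (ρ γ).toMonoidHom ≤ M := fun γ => by
    rw [hM, Subgroup.map_commutator]
    exact Subgroup.commutator_mono (by rintro _ ⟨t, ht, rfl⟩; exact h.inv γ t ht) le_top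
  have hLinv : ∀ γ, L.map (ρ γ).toMonoidHom = L := fun γ => by
    refine Subgroup.eq_of_le_of_card_ge ?_
      (by rw [Subgroup.card_map_of_injective (ρ γ).injective])
    rw [hL, Subgroup.map_commutator]
    exact Subgroup.commutator_mono (hMinv γ) le_top
  let ψ := QuotientGroup.mk' L
  have hψ := QuotientGroup.mk'_surjective L
  let ρ' : Γ →* MulAut (P ⧸ L) :=
    { toFun := fun γ => QuotientGroup.congr L L (ρ γ) (hLinv γ)
      map_one' := by
        refine MulEquiv.ext fun v => ?_
        induction v using QuotientGroup.induction_on with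
        | _ z => show ((ρ 1 z : P) : P ⧸ L) = _; rw [map_one]; rfl
      map_mul' := fun a b => by
        refine MulEquiv.ext fun v => ?_
        induction v using QuotientGroup.induction_on with
        | _ z =>
          show ((ρ (a * b) z : P) : P ⧸ L) = ((ρ a (ρ b z) : P) : P ⧸ L)
          rw [map_mul]; rfl }
  have hρ' : ∀ γ z, ρ' γ (ψ z) = ψ (ρ γ z) := fun γ z => rfl
  have hmem : ∀ z, ψ z ∈ T.map ψ ↔ z ∈ T := fun z => by
    refine ⟨?_, mem_map_of_mem ψ⟩
    rintro ⟨t, ht, e⟩
    have h1 : (t : P ⧸ L) = z := e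
    have := mul_mem ht (hLT (QuotientGroup.eq.mp h1))
    rwa [mul_inv_cancel_left] at this
  have h' : RegPair (T.map ψ) ρ' p :=
    { le := by
        rw [show commutator (P ⧸ L) = ⁅(⊤ : Subgroup (P ⧸ L)), ⊤⁆ from rfl,
          ← Subgroup.map_top_of_surjective ψ hψ, ← Subgroup.map_commutator]
        exact Subgroup.map_mono h.le
      ne_top := fun e => h.ne_top (eq_top_iff.mpr fun z _ => (hmem z).mp (e ▸ mem_top _))
      cam := by
        intro a ha n hn
        obtain ⟨a, rfl⟩ := hψ a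
        obtain ⟨m, hm, rfl⟩ := hn
        obtain ⟨s, hs⟩ := h.cam a (fun ha' => ha (mem_map_of_mem ψ ha')) m hm
        exact ⟨ψ s, by rw [← map_inv, ← map_mul, ← map_mul, hs, map_mul]⟩
      exp := fun a => by
        obtain ⟨a, rfl⟩ := hψ a
        rw [← map_pow]; exact mem_map_of_mem ψ (h.exp a)
      inv := by
        rintro γ _ ⟨t, ht, rfl⟩
        rw [hρ']; exact mem_map_of_mem ψ (h.inv γ t ht)
      trans := fun a b ha hb => by
        obtain ⟨a, rfl⟩ := hψ a
        obtain ⟨b, rfl⟩ := hψ b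
        obtain ⟨γ, hγ⟩ := h.trans a b (fun e => ha (mem_map_of_mem ψ e))
          (fun e => hb (mem_map_of_mem ψ e))
        refine ⟨γ, ?_⟩
        rw [hρ', ← map_inv, ← map_mul]
        exact mem_map_of_mem ψ hγ
      comm := fun γ δ a => by
        obtain ⟨a, rfl⟩ := hψ a
        rw [hρ', hρ', ← map_inv, ← map_mul]
        exact mem_map_of_mem ψ (h.comm γ δ a) }
  have hcc : ∀ t ∈ T.map ψ, ∀ z : P ⧸ L, ⁅t, z⁆ ∈ center (P ⧸ L) := by
    rintro _ ⟨t, ht, rfl⟩ z
    obtain ⟨z, rfl⟩ := hψ z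
    refine mem_center_of_commute fun v => ?_
    obtain ⟨v, rfl⟩ := hψ v
    rw [← map_commutatorElement, ← commutatorElement_eq_one_iff_commute, ← map_commutatorElement]
    exact (QuotientGroup.eq_one_iff _).mpr
      (commutator_mem_commutator (commutator_mem_commutator ht (mem_top z)) (mem_top v))
  have hres := h'.central_case (hP.to_quotient L) hcc
  have hMbot : M = ⊥ := by
    refine eq_bot_of_commutator_eq ?_
    rw [hM, Subgroup.commutator_le]
    intro t ht z _
    refine (QuotientGroup.eq_one_iff (N := L) ⁅t, z⁆).mp ?_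
    show ψ ⁅t, z⁆ = 1
    rw [map_commutatorElement, commutatorElement_eq_one_iff_commute]
    exact (mem_center_iff.mp (hres (mem_map_of_mem ψ ht)) (ψ z)).symm
  intro t ht
  refine mem_center_of_commute fun z => ?_
  rw [← commutatorElement_eq_one_iff_commute, ← mem_bot, ← hMbot]
  exact commutator_mem_commutator ht (mem_top z)

/-- An element outside `T` of order `p` (`p` odd), resp. of order dividing `4`. -/
theorem RegPair.exists_small_order (h : RegPair T ρ p) (hP : IsPGroup p P) :
    ∃ x ∉ T, x ^ (if p = 2 then 4 else p) = 1 := by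
  have hZ := h.le_center hP
  obtain ⟨x₀, hx₀⟩ := h.exists_not_mem
  have hTexp : ∀ t ∈ T, t ^ p = 1 := by
    intro t ht
    obtain ⟨s, rfl⟩ := h.exists_commutator hx₀ ht
    rw [← PGroup.commutator_pow_left (mem_center_iff.mp (hZ ht) _),
      commutatorElement_eq_one_iff_commute]
    exact (mem_center_iff.mp (hZ (h.exp _)) _).symm
  by_cases hp2 : p = 2
  · refine ⟨x₀, hx₀, ?_⟩
    rw [if_pos hp2, show (4 : ℕ) = 2 * 2 from rfl, pow_mul]
    subst hp2
    exact hTexp _ (h.exp x₀)
  · rw [if_neg hp2]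
    have hcm : ∀ a b : P, ⁅a, b⁆ ∈ T := fun a b =>
      h.le (commutator_mem_commutator (mem_top a) (mem_top b))
    let π : P →* P :=
      { toFun := fun x => x ^ p
        map_one' := one_pow p
        map_mul' := fun x y => PGroup.mul_pow_prime_eq hp.out hp2
          (mem_center_iff.mp (hZ (hcm y x)) x)
          (mem_center_iff.mp (hZ (hcm y x)) y)
          (hTexp _ (hcm y x)) }
    by_contra hh
    have hker : π.ker ≤ T := fun x hx => not_not.mp fun hxT => hh ⟨x, hxT, hx⟩
    have hran : π.range ≤ T := by rintro _ ⟨x, rfl⟩; exact h.exp x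
    have h1 := π.ker.index_mul_card
    rw [Subgroup.index_ker] at h1
    have h2 := T.index_mul_card
    have h3 := h.card_lt hZ le_rfl
    have h4 : Nat.card π.range ≤ Nat.card T := Nat.card_mono (Set.toFinite _) hran
    have h5 : Nat.card π.ker ≤ Nat.card T := Nat.card_mono (Set.toFinite _) hker
    have h6 : 0 < Nat.card T := Nat.card_pos
    have : Nat.card π.range * Nat.card π.ker ≤ Nat.card T * Nat.card T := Nat.mul_le_mul h4 h5
    have h7 : Nat.card T * Nat.card T < T.index * Nat.card T := Nat.mul_lt_mul_of_pos_right h3 h6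
    omega

end Cfsg.Agent.OneSeen
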