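/-
A normal chain `K < D` with `G' ≤ D`, all elements of `D \ K` conjugate, `Z(G/K) ≤ D/K`: common facts.
-/
import Cfsg.Agent.Lib.OneSeen.PGroup
import Cfsg.Agent.Lib.FPF.Thompson
import Cfsg.Agent.Lib.FPFFour.Basic
import Cfsg.Agent.Lib.Transfer.Criteria
import Cfsg.Agent.Lib.Transfer.Residual
import Cfsg.Agent.Lib.PGroup.Basic
import Cfsg.Agent.Lib.ClassIndex.Basic

set_option autoImplicit false

namespace Cfsg.Agent.OneSeen

open Subgroup
open scoped commutatorElement

universe u

variable {G : Type u} [Group G] [Finite G]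

/-- The standing hypotheses. -/
structure Data (D K : Subgroup G) (g : G) : Prop where
  normK : K.Normal
  normD : D.Normal
  le : K ≤ D
  mem : g ∈ D
  not_mem : g ∉ K
  conj : ∀ x ∈ D, x ∉ K → IsConj g x
  comm : ∀ x y : G, ⁅x, y⁆ ∈ D
  center : ∀ z : G, (∀ y, ⁅z, y⁆ ∈ K) → z ∈ D
  card : Nat.card (centralizer ({g} : Set G)) * (K.relIndex D - 1) = D.index * K.relIndex D

variable {D K : Subgroup G} {g : G}

/-- If the class of `x` in a subgroup lies in the coset `x T` and is large, it is the whole coset. -/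
theorem exists_conj_coset {S : Type*} [Group S] [Finite S] {T : Subgroup S} {x : S}
    (hcls : ∀ s : S, x⁻¹ * (s * x * s⁻¹) ∈ T)
    (hcard : Nat.card (centralizer ({x} : Set S)) * Nat.card T ≤ Nat.card S) :
    ∀ n ∈ T, ∃ s : S, s * x * s⁻¹ = x * n := by
  have h1 := (centralizer ({x} : Set S)).index_mul_card
  have h2 : (centralizer ({x} : Set S)).index =
      Nat.card (Set.range fun s : S => (⟨x⁻¹ * (s * x * s⁻¹), hcls s⟩ : T)) := by
    refine index_eq_card_range _ _ fun a b => ?_
    rw [Subtype.mk_eq_mk, mul_right_inj, mem_centralizer_singleton_iff]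
    constructor
    · intro e
      calc a⁻¹ * b * x = a⁻¹ * (b * x * b⁻¹) * b := by group
        _ = a⁻¹ * (a * x * a⁻¹) * b := by rw [e]
        _ = x * (a⁻¹ * b) := by group
    · intro e
      calc a * x * a⁻¹ = a * (x * (a⁻¹ * b)) * b⁻¹ := by group
        _ = a * (a⁻¹ * b * x) * b⁻¹ := by rw [e]
        _ = b * x * b⁻¹ := by group
  have h3 : Nat.card T ≤ (centralizer ({x} : Set S)).index := by
    rw [← h1, mul_comm (centralizer ({x} : Set S)).index] at hcard
    exact Nat.le_of_mul_le_mul_left hcard Nat.card_pos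
  rw [h2, Nat.card_coe_set_eq, ← Set.ncard_univ] at h3
  have h4 := Set.eq_of_subset_of_ncard_le (Set.subset_univ _) h3
  intro n hn
  obtain ⟨s, hs⟩ := (h4.symm ▸ Set.mem_univ (⟨n, hn⟩ : T) : (⟨n, hn⟩ : T) ∈ Set.range _)
  have e : x⁻¹ * (s * x * s⁻¹) = n := congrArg Subtype.val hs
  exact ⟨s, by rw [← e, mul_inv_cancel_left]⟩

theorem Data.conj_mem_D (h : Data D K g) {x : G} (hx : x ∈ D) (y : G) : y * x * y⁻¹ ∈ D :=
  h.normD.conj_mem x hx y

theorem Data.not_mem_conj (h : Data D K g) {x : G} (hx : x ∉ K) (y : G) : y * x * y⁻¹ ∉ K := by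
  intro hh
  have := h.normK.conj_mem _ hh y⁻¹
  exact hx (by simpa [mul_assoc] using this)

theorem Data.exists_prime (h : Data D K g) : ∃ p : ℕ, p.Prime ∧ ∀ x ∈ D, x ^ p ∈ K := by
  haveI := h.normK
  have hne : orderOf (g : G ⧸ K) ≠ 1 := fun e =>
    h.not_mem ((QuotientGroup.eq_one_iff g).mp (orderOf_eq_one_iff.mp e))
  obtain ⟨p, hp, hd⟩ := Nat.exists_prime_and_dvd hne
  refine ⟨p, hp, fun x hx => ?_⟩
  set m := orderOf (g : G ⧸ K) with hm
  have hy1 : g ^ (m / p) ∈ D := pow_mem h.mem _
  have hy2 : g ^ (m / p) ∉ K := by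
    intro hh
    have e : ((g : G ⧸ K)) ^ (m / p) = 1 := by
      rw [← QuotientGroup.mk_pow]; exact (QuotientGroup.eq_one_iff _).mpr hh
    have hlt : m / p < m := Nat.div_lt_self (orderOf_pos _) hp.one_lt
    have hpos : m / p ≠ 0 := by
      rw [Nat.div_ne_zero_iff]
      exact ⟨hp.ne_zero, Nat.le_of_dvd (orderOf_pos _) hd⟩
    exact pow_ne_one_of_lt_orderOf hpos hlt e
  by_cases hxK : x ∈ K
  · exact pow_mem hxK p
  obtain ⟨s, hs⟩ := isConj_iff.mp ((h.conj _ hy1 hy2).symm.trans (h.conj x hx hxK))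
  rw [← hs, conj_pow, ← pow_mul, Nat.div_mul_cancel hd]
  refine h.normK.conj_mem _ ?_ s
  rw [← QuotientGroup.eq_one_iff, QuotientGroup.mk_pow]
  exact pow_orderOf_eq_one _

theorem Data.isPGroup_g (h : Data D K g) {p : ℕ} [hp : Fact p.Prime] (hexp : ∀ x ∈ D, x ^ p ∈ K) :
    ∃ k, orderOf g = p ^ k := by
  set n := orderOf g with hn
  set m := n / p ^ n.factorization p with hm
  have hn0 : n ≠ 0 := (orderOf_pos g).ne'
  have hpm : ¬ p ∣ m := Nat.not_dvd_ordCompl hp.out hn0
  have hmd : m ∣ n := Nat.ordCompl_dvd n p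
  have hgm : g ^ m ∉ K := by
    intro hh
    haveI := h.normK
    refine h.not_mem ((QuotientGroup.eq_one_iff g).mp (orderOf_eq_one_iff.mp ?_))
    refine Nat.eq_one_of_dvd_coprimes (hp.out.coprime_iff_not_dvd.mpr hpm) ?_ ?_
    · exact orderOf_dvd_of_pow_eq_one (by
        rw [← QuotientGroup.mk_pow]; exact (QuotientGroup.eq_one_iff _).mpr (hexp g h.mem))
    · exact orderOf_dvd_of_pow_eq_one (by
        rw [← QuotientGroup.mk_pow]; exact (QuotientGroup.eq_one_iff _).mpr hh)
  obtain ⟨s, hs⟩ := isConj_iff.mp (h.conj _ (pow_mem h.mem m) hgm)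
  have e : orderOf (g ^ m) = n := by
    rw [← hs]; exact (MulAut.conj s).orderOf_eq g
  rw [orderOf_pow, ← hn, Nat.gcd_eq_right hmd] at e
  have hm1 : m = 1 := by
    have hm0 : 0 < m := Nat.pos_of_ne_zero fun e0 => hpm (e0 ▸ dvd_zero p)
    by_contra hne
    exact absurd e (Nat.div_lt_self (Nat.pos_of_ne_zero hn0) (by omega)).ne
  refine ⟨n.factorization p, ?_⟩
  have := Nat.ordProj_mul_ordCompl_eq_self n p
  rw [← hm, hm1, mul_one] at this
  exact this.symm

theorem Data.comm_mem_K (h : Data D K g) {p : ℕ} [hp : Fact p.Prime]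
    (hexp : ∀ x ∈ D, x ^ p ∈ K) {x y : G} (hx : x ∈ D) (hy : y ∈ D) : ⁅x, y⁆ ∈ K := by
  haveI := h.normK
  set V := D.map (QuotientGroup.mk' K) with hV
  have hVp : IsPGroup p V := by
    rintro ⟨_, d, hd, rfl⟩
    refine ⟨1, Subtype.ext ?_⟩
    show ((d : G ⧸ K)) ^ p ^ 1 = 1
    rw [pow_one, ← QuotientGroup.mk_pow]
    exact (QuotientGroup.eq_one_iff _).mpr (hexp d hd)
  haveI : Nontrivial V := by
    refine ⟨⟨⟨_, mem_map_of_mem _ h.mem⟩, 1, fun e => h.not_mem ?_⟩⟩
    exact (QuotientGroup.eq_one_iff g).mp (congrArg Subtype.val e)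
  haveI := hVp.center_nontrivial
  obtain ⟨z, hz⟩ := exists_ne (1 : Subgroup.center V)
  obtain ⟨d, hd, hdz⟩ := (z : V).2
  have hdK : d ∉ K := fun hh => hz (Subtype.ext (Subtype.ext (by
    rw [← hdz]; exact (QuotientGroup.eq_one_iff d).mpr hh)))
  have key : ∀ w ∈ D, ⁅d, w⁆ ∈ K := by
    intro w hw
    rw [← QuotientGroup.eq_one_iff]
    show QuotientGroup.mk' K ⁅d, w⁆ = 1
    rw [map_commutatorElement, commutatorElement_eq_one_iff_commute, hdz]
    exact (congrArg Subtype.val
      (Subgroup.mem_center_iff.mp z.2 ⟨QuotientGroup.mk' K w, mem_map_of_mem _ hw⟩)).symm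
  by_cases hxK : x ∈ K
  · have := mul_mem hxK (h.normK.conj_mem _ (inv_mem hxK) y)
    rw [commutatorElement_def]
    simpa [mul_assoc] using this
  · obtain ⟨s, hs⟩ := isConj_iff.mp ((h.conj d hd hdK).symm.trans (h.conj x hx hxK))
    have hy' : s⁻¹ * y * s ∈ D := by
      simpa using h.conj_mem_D hy s⁻¹
    have h1 := h.normK.conj_mem _ (key _ hy') s
    rw [← hs]
    have e : s * ⁅d, s⁻¹ * y * s⁆ * s⁻¹ = ⁅s * d * s⁻¹, y⁆ := by
      simp [commutatorElement_def, mul_assoc]
    rwa [e] at h1

/-- Conjugation by elements of `D` is trivial modulo `K` on `D`. -/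
theorem Data.conj_mod (h : Data D K g) {p : ℕ} [hp : Fact p.Prime]
    (hexp : ∀ x ∈ D, x ^ p ∈ K) {x y : G} (hx : x ∈ D) (hy : y ∈ D) :
    (x * y * x⁻¹)⁻¹ * y ∈ K := by
  have := h.comm_mem_K hexp hx (inv_mem hy)
  rw [commutatorElement_def, inv_inv] at this
  simpa [mul_assoc] using this

/-- The final step. -/
theorem Data.isSolvable_of_local (h : Data D K g) {p : ℕ} [hp : Fact p.Prime]
    (hexp : ∀ x ∈ D, x ^ p ∈ K)
    (hC : IsPGroup p (centralizer ({g} : Set G)))
    (hord : g ^ (if p = 2 then 4 else p) = 1)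
    (P : Sylow p D) (hP : K.subgroupOf D ⊓ (P : Subgroup D) ≤
      (frattini P).map (P : Subgroup D).subtype) :
    Group.IsSolvable G := by
  haveI := h.normK
  haveI := h.normD
  set K' := K.subgroupOf D with hK'
  haveI : K'.Normal := h.normK.subgroupOf D
  have hcop := Transfer.hasNormalPComplement_iff_coprime.mp
    (Transfer.frattini_hasNormalPComplement P K' hP)
  set R := Cfsg.pResidual p K' with hR
  set M : Subgroup G := closure {x | x ∈ K ∧ (orderOf x).Coprime p} with hM
  have hMR : M = (R.map K'.subtype).map D.subtype := by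
    rw [hR, Cfsg.pResidual, MonoidHom.map_closure, MonoidHom.map_closure, hM]
    congr 1
    ext x
    constructor
    · rintro ⟨hx, hco⟩
      refine ⟨⟨x, h.le hx⟩, ⟨⟨⟨x, h.le hx⟩, Subgroup.mem_subgroupOf.mpr hx⟩, ?_, rfl⟩, rfl⟩
      show (orderOf _).Coprime p
      rwa [← Subgroup.orderOf_coe, ← Subgroup.orderOf_coe]
    · rintro ⟨y, ⟨z, hz, rfl⟩, rfl⟩
      refine ⟨Subgroup.mem_subgroupOf.mp z.2, ?_⟩
      have hz' : (orderOf z).Coprime p := hz
      rwa [← Subgroup.orderOf_coe, ← Subgroup.orderOf_coe] at hz'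
  have hMcop : (Nat.card M).Coprime p := by
    rw [hMR, Subgroup.card_map_of_injective D.subtype_injective,
      Subgroup.card_map_of_injective K'.subtype_injective]
    exact hcop
  have hMK : M ≤ K := (closure_le _).mpr fun x hx => hx.1
  haveI hMn : M.Normal := by
    refine ⟨fun x hx y => ?_⟩
    have hle : M.map (MulAut.conj y).toMonoidHom ≤ M := by
      rw [hM, MonoidHom.map_closure]
      refine closure_mono ?_
      rintro _ ⟨z, ⟨hz, hzo⟩, rfl⟩
      refine ⟨h.normK.conj_mem z hz y, ?_⟩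
      rwa [show orderOf ((MulAut.conj y).toMonoidHom z) = orderOf z from (MulAut.conj y).orderOf_eq z]
    exact hle (mem_map_of_mem _ hx)
  -- `g` acts without fixed points on `M`
  have hfix : ∀ x ∈ M, g * x * g⁻¹ = x → x = 1 := by
    intro x hx e
    have hxC : x ∈ centralizer ({g} : Set G) :=
      mem_centralizer_singleton_iff.mpr (mul_inv_eq_iff_eq_mul.mp e).symm
    obtain ⟨k, hk⟩ := IsPGroup.iff_orderOf.mp hC ⟨x, hxC⟩
    rw [← Subgroup.orderOf_coe] at hk
    rw [← orderOf_eq_one_iff]
    refine Nat.eq_one_of_dvd_coprimes (hMcop.pow_right k) ?_ hk.dvd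
    have := orderOf_dvd_natCard (⟨x, hx⟩ : M)
    rwa [← Subgroup.orderOf_coe] at this
  have hMs : Group.IsSolvable M := by
    by_cases hp2 : p = 2
    · rw [if_pos hp2] at hord
      refine FPFFour.isSolvable_of_fpf_four (MulAut.conjNormal g) (fun x hx => ?_) (fun x => ?_)
      · refine Subtype.ext (hfix x x.2 ?_)
        have := congrArg Subtype.val hx
        rwa [MulAut.conjNormal_apply] at this
      · rw [← MulAut.mul_apply, ← MulAut.mul_apply, ← MulAut.mul_apply, ← map_mul, ← map_mul,
          ← map_mul, show g * g * g * g = g ^ 4 by simp [pow_succ], hord, map_one, MulAut.one_apply]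
    · rw [if_neg hp2] at hord
      have hg1 : g ≠ 1 := fun e => h.not_mem (e ▸ one_mem K)
      have hgo : orderOf g = p := orderOf_eq_prime hord hg1
      haveI := FPF.nilpotent_of_fpf_prime (A := zpowers g) (p := p) (by rw [Nat.card_zpowers, hgo]) M
        ((MulAut.conjNormal (H := M)).comp (zpowers g).subtype) (fun x hx => by
          refine Subtype.ext (hfix x x.2 ?_)
          have := congrArg Subtype.val (hx ⟨g, mem_zpowers g⟩)
          simpa [MulAut.conjNormal_apply] using this)
      infer_instance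
  -- assemble
  have hKs : Group.IsSolvable K := by
    haveI : (M.subgroupOf K).Normal := hMn.subgroupOf K
    haveI : Group.IsSolvable (M.subgroupOf K) :=
      Group.isSolvable_of_isSolvable_injective
        (f := (subgroupOfEquivOfLe hMK).toMonoidHom) (subgroupOfEquivOfLe hMK).injective
    have hq : IsPGroup p (K ⧸ M.subgroupOf K) := by
      intro v
      induction v using QuotientGroup.induction_on with
      | _ x =>
        refine ⟨(orderOf x).factorization p, ?_⟩
        rw [← QuotientGroup.mk_pow, QuotientGroup.eq_one_iff, Subgroup.mem_subgroupOf]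
        refine subset_closure ⟨(x ^ p ^ (orderOf x).factorization p).2, ?_⟩
        rw [Subgroup.orderOf_coe, orderOf_pow' _ (pow_ne_zero _ hp.out.ne_zero),
          Nat.gcd_eq_right (Nat.ordProj_dvd _ p)]
        exact (Nat.coprime_ordCompl hp.out (orderOf_pos x).ne').symm
    haveI := hq.isNilpotent
    exact Group.isSolvable_of_ker_le_range (M.subgroupOf K).subtype
      (QuotientGroup.mk' (M.subgroupOf K)) (by rw [QuotientGroup.ker_mk', Subgroup.range_subtype])
  have hDs : Group.IsSolvable D := by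
    haveI := hKs
    haveI : Group.IsSolvable K' :=
      Group.isSolvable_of_isSolvable_injective
        (f := (subgroupOfEquivOfLe h.le).toMonoidHom) (subgroupOfEquivOfLe h.le).injective
    haveI : Group.IsSolvable (D ⧸ K') := Group.isSolvable_of_comm fun a b => by
      induction a using QuotientGroup.induction_on with
      | _ x =>
        induction b using QuotientGroup.induction_on with
        | _ y =>
          rw [← commutatorElement_eq_one_iff_mul_comm,
            show ⁅((x : D) : D ⧸ K'), (y : D ⧸ K')⁆ = QuotientGroup.mk' K' ⁅x, y⁆ from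
              (map_commutatorElement (QuotientGroup.mk' K') x y).symm]
          exact (QuotientGroup.eq_one_iff (N := K') _).mpr
            (Subgroup.mem_subgroupOf.mpr (h.comm_mem_K hexp x.2 y.2))
    exact Group.isSolvable_of_ker_le_range K'.subtype (QuotientGroup.mk' K')
      (by rw [QuotientGroup.ker_mk', Subgroup.range_subtype])
  haveI := hDs
  haveI : Group.IsSolvable (G ⧸ D) := Group.isSolvable_of_comm fun a b => by
    induction a using QuotientGroup.induction_on with
    | _ x =>
      induction b using QuotientGroup.induction_on with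
      | _ y =>
        rw [← commutatorElement_eq_one_iff_mul_comm,
          show ⁅(x : G ⧸ D), (y : G ⧸ D)⁆ = QuotientGroup.mk' D ⁅x, y⁆ from
            (map_commutatorElement (QuotientGroup.mk' D) x y).symm]
        exact (QuotientGroup.eq_one_iff (N := D) _).mpr (h.comm x y)
  exact Group.isSolvable_of_ker_le_range D.subtype (QuotientGroup.mk' D)
    (by rw [QuotientGroup.ker_mk', Subgroup.range_subtype])

end Cfsg.Agent.OneSeen
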