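/-
Sums of linear characters and values at central elements.
-/
import Cfsg.Agent.Lib.Codegree.Basic
import Cfsg.Agent.Lib.Char.Linear

set_option autoImplicit false

namespace Cfsg.Agent.OneSeen

open Cfsg
open scoped ComplexConjugate commutatorElement

variable {G : Type*} [Group G] [Finite G]

theorem sum_linear [Fintype (IrrCharacter G)]
    [DecidablePred fun ψ : IrrCharacter G => (ψ : G → ℂ) 1 = 1] (x : G) [Decidable (x ∈ commutator G)] :
    ∑ ψ ∈ Finset.univ.filter (fun ψ : IrrCharacter G => (ψ : G → ℂ) 1 = 1), (ψ : G → ℂ) x =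
      if x ∈ commutator G then ((commutator G).index : ℂ) else 0 := by
  classical
  haveI : Finite (G →* ℂˣ) := Finite.of_equiv _ (Char.linearCharEquiv G).symm
  haveI := Fintype.ofFinite (G →* ℂˣ)
  rw [Finset.sum_subtype _ (p := fun ψ : IrrCharacter G => (ψ : G → ℂ) 1 = 1) (fun ψ => by simp)
    (fun ψ : IrrCharacter G => (ψ : G → ℂ) x)]
  rw [← Equiv.sum_comp (Char.linearCharEquiv G)]
  show ∑ l : G →* ℂˣ, ((l x : ℂˣ) : ℂ) = _
  split_ifs with hx
  · have h1 : ∀ l : G →* ℂˣ, ((l x : ℂˣ) : ℂ) = 1 := fun l => by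
      have : x ∈ l.ker := Abelianization.commutator_subset_ker l hx
      rw [MonoidHom.mem_ker.mp this, Units.val_one]
    rw [Finset.sum_congr rfl fun l _ => h1 l, Finset.sum_const, Finset.card_univ, nsmul_one,
      Fintype.card_eq_nat_card, Nat.card_congr (Char.linearCharEquiv G), Char.card_linear_irr]
  · haveI : NeZero (Monoid.exponent (Abelianization G)) := ⟨Monoid.exponent_ne_zero_of_finite⟩
    haveI : NeZero ((Monoid.exponent (Abelianization G) : ℕ) : ℂ) := ⟨Nat.cast_ne_zero.2 (NeZero.ne _)⟩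
    have hne : Abelianization.of x ≠ 1 := fun e => hx ((QuotientGroup.eq_one_iff x).mp e)
    obtain ⟨φ, hφ⟩ := CommGroup.exists_apply_ne_one_of_hasEnoughRootsOfUnity (Abelianization G) ℂ hne
    set l₀ : G →* ℂˣ := φ.comp Abelianization.of with hl₀
    have h2 : ∑ l : G →* ℂˣ, ((l x : ℂˣ) : ℂ) = ((l₀ x : ℂˣ) : ℂ) * ∑ l : G →* ℂˣ, ((l x : ℂˣ) : ℂ) := by
      conv_lhs => rw [← Equiv.sum_comp (Equiv.mulLeft l₀) (fun l : G →* ℂˣ => ((l x : ℂˣ) : ℂ))]
      rw [Finset.mul_sum]
      refine Finset.sum_congr rfl fun l _ => ?_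
      simp
    have h3 : ((l₀ x : ℂˣ) : ℂ) ≠ 1 := fun e => hφ (Units.ext e)
    by_contra h4
    exact h3 (mul_right_cancel₀ h4 (h2.symm.trans (one_mul _).symm))

theorem apply_ne_zero_of_mem_center {z : G} (hz : z ∈ Subgroup.center G) (χ : IrrCharacter G) :
    (χ : G → ℂ) z ≠ 0 := by
  obtain ⟨n, ρ, hirr, hρ⟩ := χ.2
  obtain ⟨c, hc⟩ := CharApp.exists_scalar_of_mem_center ρ hz
  intro h0
  rw [← hρ, Representation.character, hc, map_smul, smul_eq_mul] at h0
  have hfin : LinearMap.trace ℂ _ (1 : Module.End ℂ (Fin n → ℂ)) ≠ 0 := by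
    rw [LinearMap.trace_one]
    exact CharApp.finrank_cast_ne_zero ρ
  have hc0 : c = 0 := (mul_eq_zero.mp h0).resolve_right hfin
  have h1 : ρ z = 0 := by rw [hc, hc0, zero_smul]
  have h2 : ρ (z * z⁻¹) = 0 := by rw [map_mul, h1, zero_mul]
  rw [mul_inv_cancel, map_one] at h2
  haveI := CharApp.nontrivial_of_irr ρ
  exact one_ne_zero h2

/-- Degree one from a kernel containing the derived subgroup. -/
theorem apply_one_of_commutator_le (ψ : IrrCharacter G) (h : commutator G ≤ Codegree.kerSub ψ) :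
    (ψ : G → ℂ) 1 = 1 := by
  obtain ⟨φ, hφ⟩ := Codegree.exists_quot ψ (commutator G) h
  rw [← hφ 1]
  exact Char.apply_one_eq_one_of_comm (fun a b => mul_comm (a : Abelianization G) b) φ

/-- Elements central modulo the kernel. -/
theorem apply_ne_zero_of_central_mod (χ : IrrCharacter G) {z : G}
    (hz : ∀ y, ⁅z, y⁆ ∈ Codegree.kerSub χ) : (χ : G → ℂ) z ≠ 0 := by
  obtain ⟨φ, hφ⟩ := Codegree.exists_quot χ (Codegree.kerSub χ) le_rfl
  rw [← hφ z]
  refine apply_ne_zero_of_mem_center (Subgroup.mem_center_iff.mpr fun w => ?_) φ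
  induction w using QuotientGroup.induction_on with
  | _ y =>
    have h1 : ⁅(z : G ⧸ Codegree.kerSub χ), (y : G ⧸ Codegree.kerSub χ)⁆ = 1 :=
      ((map_commutatorElement (QuotientGroup.mk' (Codegree.kerSub χ)) z y).symm).trans
        ((QuotientGroup.eq_one_iff _).mpr (hz y))
    exact (commutatorElement_eq_one_iff_mul_comm.mp h1).symm

end Cfsg.Agent.OneSeen
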