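/-
The case `|D : K| > 2`: `G / K` is a Frobenius group and the Sylow subgroup of `D` has class two.
-/
import Cfsg.Agent.Lib.OneSeen.Basic

set_option autoImplicit false

namespace Cfsg.Agent.OneSeen

open Subgroup
open scoped commutatorElement Pointwise

universe u

variable {G : Type u} [Group G] [Finite G] {D K : Subgroup G} {g : G}

/-- The centraliser of `g` is a subgroup of `D` of order `|D : K|`. -/
theorem Data.centralizer_of_gt_two (h : Data D K g) {p : ℕ} [hp : Fact p.Prime]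
    (hexp : ∀ x ∈ D, x ^ p ∈ K) (hq : 2 < K.relIndex D) :
    centralizer ({g} : Set G) ≤ D ∧ Nat.card (centralizer ({g} : Set G)) = K.relIndex D := by
  haveI := h.normK
  haveI := h.normD
  let π := QuotientGroup.mk' K
  have hπ := QuotientGroup.mk'_surjective K
  set V := D.map π with hV
  have hVn : V.Normal := h.normD.map π hπ
  have hmemV : ∀ x, π x ∈ V ↔ x ∈ D := fun x => by
    refine ⟨?_, mem_map_of_mem π⟩
    rintro ⟨d, hd, e⟩
    have h1 : (d : G ⧸ K) = x := e
    have := mul_mem hd (h.le (QuotientGroup.eq.mp h1))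
    rwa [mul_inv_cancel_left] at this
  have hπ1 : ∀ x, π x = 1 ↔ x ∈ K := fun x => QuotientGroup.eq_one_iff x
  have hVab : ∀ a ∈ V, ∀ b ∈ V, Commute a b := by
    rintro _ ⟨a, ha, rfl⟩ _ ⟨b, hb, rfl⟩
    rw [← commutatorElement_eq_one_iff_commute, ← map_commutatorElement, hπ1]
    exact h.comm_mem_K hexp ha hb
  have hVcomm : ∀ a b : G ⧸ K, ⁅a, b⁆ ∈ V := fun a b => by
    obtain ⟨a, rfl⟩ := hπ a
    obtain ⟨b, rfl⟩ := hπ b
    rw [← map_commutatorElement]
    exact mem_map_of_mem π (h.comm a b)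
  have hVconj : ∀ a ∈ V, a ≠ 1 → ∀ b ∈ V, b ≠ 1 → ∃ s, s * a * s⁻¹ = b := by
    rintro _ ⟨a, ha, rfl⟩ ha1 _ ⟨b, hb, rfl⟩ hb1
    obtain ⟨s, hs⟩ := isConj_iff.mp ((h.conj a ha fun e => ha1 ((hπ1 a).mpr e)).symm.trans
      (h.conj b hb fun e => hb1 ((hπ1 b).mpr e)))
    exact ⟨π s, by rw [← map_inv, ← map_mul, ← map_mul, hs]⟩
  have hstab : ∀ c : G ⧸ K, ∀ a ∈ V, a ≠ 1 → Commute c a → ∀ b ∈ V, Commute c b := by
    intro c a ha ha1 hca b hb
    by_cases hb1 : b = 1
    · rw [hb1]; exact Commute.one_right c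
    obtain ⟨s, rfl⟩ := hVconj a ha ha1 b hb hb1
    have hu : Commute ⁅c, s⁆ (s * a * s⁻¹) := hVab _ (hVcomm c s) _ (hVn.conj_mem a ha s)
    have h1 : c * (s * a * s⁻¹) * c⁻¹ = s * a * s⁻¹ := by
      calc c * (s * a * s⁻¹) * c⁻¹
          = ⁅c, s⁆ * (s * (c * a * c⁻¹) * s⁻¹) * ⁅c, s⁆⁻¹ := by
            simp [commutatorElement_def, mul_assoc]
        _ = ⁅c, s⁆ * (s * a * s⁻¹) * ⁅c, s⁆⁻¹ := by rw [hca.eq, mul_inv_cancel_right]
        _ = s * a * s⁻¹ := by rw [hu.eq, mul_inv_cancel_right]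
    exact mul_inv_eq_iff_eq_mul.mp h1
  set g₀ := π g with hg₀
  have hg₀V : g₀ ∈ V := mem_map_of_mem π h.mem
  have hg₀1 : g₀ ≠ 1 := fun e => h.not_mem ((hπ1 g).mp e)
  have hcardV : Nat.card V = K.relIndex D := by
    rw [← Subgroup.relIndex_bot_left, ← Subgroup.relIndex_comap,
      show (⊥ : Subgroup (G ⧸ K)).comap π = K from QuotientGroup.ker_mk' K]
  have hZV : ∀ z : G ⧸ K, (∀ y, Commute z y) → z ∈ V := by
    intro z hz
    obtain ⟨z, rfl⟩ := hπ z
    refine mem_map_of_mem π (h.center z fun y => ?_)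
    rw [← hπ1, map_commutatorElement, commutatorElement_eq_one_iff_commute]
    exact hz _
  -- the centre of the quotient is trivial
  have hZ : ∀ z : G ⧸ K, (∀ y, Commute z y) → z = 1 := by
    intro z hz
    by_contra hz1
    have hall : ∀ b ∈ V, b = 1 ∨ b = z := by
      intro b hb
      by_cases hb1 : b = 1
      · exact Or.inl hb1
      · obtain ⟨s, rfl⟩ := hVconj z (hZV z hz) hz1 b hb hb1
        exact Or.inr (by rw [← (hz s).eq, mul_inv_cancel_right])
    have : (V : Set (G ⧸ K)) ⊆ {1, z} := fun b hb => by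
      rcases hall b hb with e | e
      · exact Or.inl e
      · exact Or.inr e
    have h1 := (Set.ncard_le_ncard this (Set.toFinite _)).trans (Set.ncard_insert_le _ _)
    rw [Set.ncard_singleton, ← Nat.card_coe_set_eq] at h1
    have : Nat.card V ≤ 1 + 1 := h1
    omega
  obtain ⟨t, ht⟩ : ∃ t, ¬ Commute t g₀ := by
    by_contra hh
    rw [not_exists] at hh
    exact hg₀1 (hZ g₀ fun y => (not_not.mp (hh y)).symm)
  have htV : ∀ a ∈ V, Commute a t → a = 1 := by
    intro a ha hat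
    by_contra ha1
    exact ht (hstab t a ha ha1 hat.symm g₀ hg₀V)
  -- the centraliser of `g₀` is `V`
  have hC0 : centralizer ({g₀} : Set (G ⧸ K)) = V := by
    refine le_antisymm (fun c hc => ?_)
      fun a ha => mem_centralizer_singleton_iff.mpr (hVab a ha g₀ hg₀V).eq
    have hcV : ∀ b ∈ V, Commute c b :=
      hstab c g₀ hg₀V hg₀1 (mem_centralizer_singleton_iff.mp hc)
    let F : V → V := fun d => ⟨⁅(d : G ⧸ K), t⁆, hVcomm _ _⟩
    have hFinj : Function.Injective F := by
      intro a b e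
      have e' : ⁅(a : G ⧸ K), t⁆ = ⁅(b : G ⧸ K), t⁆ := congrArg Subtype.val e
      have h1 : (a : G ⧸ K) * t * (a : G ⧸ K)⁻¹ = (b : G ⧸ K) * t * (b : G ⧸ K)⁻¹ :=
        mul_right_cancel e'
      refine Subtype.ext (inv_mul_eq_one.mp (htV _ (mul_mem (inv_mem b.2) a.2) ?_)).symm
      show (b : G ⧸ K)⁻¹ * a * t = t * ((b : G ⧸ K)⁻¹ * a)
      calc (b : G ⧸ K)⁻¹ * a * t = (b : G ⧸ K)⁻¹ * ((a : G ⧸ K) * t * (a : G ⧸ K)⁻¹) * a := by group
        _ = (b : G ⧸ K)⁻¹ * ((b : G ⧸ K) * t * (b : G ⧸ K)⁻¹) * a := by rw [h1]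
        _ = t * ((b : G ⧸ K)⁻¹ * a) := by group
    obtain ⟨d, hd⟩ := Finite.surjective_of_injective hFinj ⟨⁅c, t⁆, hVcomm _ _⟩
    have hd' : ⁅(d : G ⧸ K), t⁆ = ⁅c, t⁆ := congrArg Subtype.val hd
    have hdt : (d : G ⧸ K) * t * (d : G ⧸ K)⁻¹ = c * t * c⁻¹ := mul_right_cancel hd'
    set c' := (d : G ⧸ K)⁻¹ * c with hc'
    have hc't : Commute c' t := by
      show c' * t = t * c'
      calc c' * t = (d : G ⧸ K)⁻¹ * (c * t * c⁻¹) * c := by rw [hc']; group
        _ = (d : G ⧸ K)⁻¹ * ((d : G ⧸ K) * t * (d : G ⧸ K)⁻¹) * c := by rw [hdt]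
        _ = t * c' := by rw [hc']; group
    have hc'V : ∀ b ∈ V, Commute c' b := fun b hb =>
      ((hVab _ d.2 b hb).inv_left).mul_left (hcV b hb)
    have hcent : ∀ y, Commute c' y := by
      intro y
      rw [← commutatorElement_eq_one_iff_commute]
      refine htV _ (hVcomm c' y) ?_
      have hw : t * y * t⁻¹ = ⁅t, y⁆ * y := by simp [commutatorElement_def, mul_assoc]
      have h1 : t * ⁅c', y⁆ * t⁻¹ = ⁅c', t * y * t⁻¹⁆ := by
        have := map_commutatorElement (MulAut.conj t).toMonoidHom c' y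
        simp only [MulEquiv.coe_toMonoidHom, MulAut.conj_apply] at this
        rw [this, hc't.symm.eq, mul_inv_cancel_right]
      have h2 : ⁅c', ⁅t, y⁆ * y⁆ = ⁅c', y⁆ := by
        have e1 := (hc'V _ (hVcomm t y)).eq
        have e2 := (hVab _ (hVcomm t y) _ (hVcomm c' y)).eq
        calc ⁅c', ⁅t, y⁆ * y⁆ = (c' * ⁅t, y⁆) * y * c'⁻¹ * y⁻¹ * ⁅t, y⁆⁻¹ := by
              simp [commutatorElement_def, mul_assoc]
          _ = (⁅t, y⁆ * c') * y * c'⁻¹ * y⁻¹ * ⁅t, y⁆⁻¹ := by rw [e1]
          _ = (⁅t, y⁆ * ⁅c', y⁆) * ⁅t, y⁆⁻¹ := by simp [commutatorElement_def, mul_assoc]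
          _ = ⁅c', y⁆ := by rw [e2, mul_inv_cancel_right]
      rw [hw, h2] at h1
      exact (mul_inv_eq_iff_eq_mul.mp h1).symm
    have := mul_mem d.2 (hZV c' hcent)
    rwa [hc', mul_inv_cancel_left] at this
  -- counting
  have hcls : Nat.card {y : G ⧸ K | IsConj g₀ y} = K.relIndex D - 1 := by
    have : {y : G ⧸ K | IsConj g₀ y} = (V : Set (G ⧸ K)) \ {1} := by
      ext y
      constructor
      · intro hy
        obtain ⟨s, rfl⟩ := isConj_iff.mp hy
        exact ⟨hVn.conj_mem _ hg₀V s, fun e => hg₀1 (conj_eq_one_iff.mp e)⟩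
      · rintro ⟨hy, hy1⟩
        exact isConj_iff.mpr (hVconj g₀ hg₀V hg₀1 y hy hy1)
    rw [this, Nat.card_coe_set_eq, Set.ncard_sdiff (Set.singleton_subset_iff.mpr (one_mem V)),
      Set.ncard_singleton, ← Nat.card_coe_set_eq]
    exact congrArg (· - 1) hcardV
  have horb : (centralizer ({g₀} : Set (G ⧸ K))).index = K.relIndex D - 1 := by
    rw [← hcls]
    refine (index_eq_card_range _ (fun s => s * g₀ * s⁻¹) fun a b => ?_).trans ?_
    · rw [mem_centralizer_singleton_iff]
      constructor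
      · intro e
        calc a⁻¹ * b * g₀ = a⁻¹ * (b * g₀ * b⁻¹) * b := by group
          _ = a⁻¹ * (a * g₀ * a⁻¹) * b := by rw [e]
          _ = g₀ * (a⁻¹ * b) := by group
      · intro e
        calc a * g₀ * a⁻¹ = a * (g₀ * (a⁻¹ * b)) * b⁻¹ := by group
          _ = a * (a⁻¹ * b * g₀) * b⁻¹ := by rw [e]
          _ = b * g₀ * b⁻¹ := by group
    · refine congrArg (fun s : Set (G ⧸ K) => Nat.card s) ?_
      ext y
      exact isConj_iff.symm
  rw [hC0] at horb
  have hDidx : D.index = K.relIndex D - 1 := by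
    rw [← horb, hV, index_map_eq _ hπ (by rw [QuotientGroup.ker_mk']; exact h.le)]
  refine ⟨fun x hx => (hmemV x).mp ?_, ?_⟩
  · rw [← hC0, mem_centralizer_singleton_iff, hg₀, ← map_mul, ← map_mul,
      mem_centralizer_singleton_iff.mp hx]
  · have := h.card
    rw [hDidx, mul_comm (K.relIndex D - 1)] at this
    exact Nat.eq_of_mul_eq_mul_right (by omega) this

/-- The case `|D : K| > 2`. -/
theorem Data.isSolvable_of_gt_two (h : Data D K g) {p : ℕ} [hp : Fact p.Prime]
    (hexp : ∀ x ∈ D, x ^ p ∈ K) (hq : 2 < K.relIndex D) : Group.IsSolvable G := by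
  haveI := h.normK
  haveI := h.normD
  obtain ⟨hCD, hCcard⟩ := h.centralizer_of_gt_two hexp hq
  set K' := K.subgroupOf D with hK'
  haveI : K'.Normal := h.normK.subgroupOf D
  have hqp : IsPGroup p (D ⧸ K') := by
    intro v
    induction v using QuotientGroup.induction_on with
    | _ x =>
      refine ⟨1, ?_⟩
      rw [pow_one, ← QuotientGroup.mk_pow, QuotientGroup.eq_one_iff, Subgroup.mem_subgroupOf]
      exact hexp x x.2
  obtain ⟨f, hf⟩ := IsPGroup.iff_card.mp hqp
  have hrel : K.relIndex D = p ^ f := hf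
  have hC : IsPGroup p (centralizer ({g} : Set G)) := IsPGroup.of_card (hCcard.trans hrel)
  obtain ⟨k, hk⟩ := h.isPGroup_g hexp
  obtain ⟨P, hgP⟩ := (IsPGroup.of_card (G := zpowers (⟨g, h.mem⟩ : D)) (n := k)
    (by rw [Nat.card_zpowers, ← Subgroup.orderOf_coe, hk])).exists_le_sylow
  set Pg := (P : Subgroup D).map D.subtype with hPg
  have hPgD : Pg ≤ D := map_subtype_le _
  have hgPg : g ∈ Pg := ⟨⟨g, h.mem⟩, hgP (mem_zpowers _), rfl⟩
  have hPgp : IsPGroup p Pg := P.2.map _
  set T := K.subgroupOf Pg with hT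
  have hTidx : T.index = p ^ f := by
    show K.relIndex Pg = p ^ f
    rw [hPg, ← Subgroup.relIndex_comap, ← hrel]
    show K'.relIndex (P : Subgroup D) = K'.index
    have hsup : (P : Subgroup D) ⊔ K' = ⊤ := by
      rw [← Subgroup.index_eq_one]
      refine Nat.eq_one_of_dvd_coprimes (a := p ^ f) ?_ ?_
        (Subgroup.index_dvd_of_le (le_sup_left : (P : Subgroup D) ≤ (P : Subgroup D) ⊔ K'))
      · exact (hp.out.coprime_iff_not_dvd.mpr P.not_dvd_index).pow_left f
      · exact hf ▸ Subgroup.index_dvd_of_le (le_sup_right : K' ≤ (P : Subgroup D) ⊔ K')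
    rw [← Subgroup.relIndex_sup_right (H := (P : Subgroup D)) (K := K'), hsup,
      Subgroup.relIndex_top_right]
  -- centralisers in `Pg`
  have hcent : ∀ x : Pg, x ∉ T →
      Nat.card (centralizer ({x} : Set Pg)) * Nat.card T ≤ Nat.card Pg := by
    intro x hx
    have hc : Nat.card (centralizer ({(x : G)} : Set G)) = p ^ f := by
      obtain ⟨s, hs⟩ := isConj_iff.mp (h.conj x (hPgD x.2) fun e => hx (Subgroup.mem_subgroupOf.mpr e))
      have : centralizer ({(x : G)} : Set G) =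
          (centralizer ({g} : Set G)).map (MulAut.conj s).toMonoidHom := by
        ext y
        rw [Subgroup.mem_map_equiv, MulAut.conj_symm_apply, mem_centralizer_singleton_iff,
          mem_centralizer_singleton_iff, ← hs]
        constructor
        · intro e
          calc s⁻¹ * y * s * g = s⁻¹ * (y * (s * g * s⁻¹)) * s := by group
            _ = s⁻¹ * (s * g * s⁻¹ * y) * s := by rw [e]
            _ = g * (s⁻¹ * y * s) := by group
        · intro e
          calc y * (s * g * s⁻¹) = s * (s⁻¹ * y * s * g) * s⁻¹ := by group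
            _ = s * (g * (s⁻¹ * y * s)) * s⁻¹ := by rw [e]
            _ = s * g * s⁻¹ * y := by group
      rw [this, Subgroup.card_map_of_injective (MulAut.conj s).injective, hCcard, hrel]
    have hle : Nat.card (centralizer ({x} : Set Pg)) ≤ p ^ f := by
      rw [← hc]
      refine Nat.card_le_card_of_injective
        (fun y => (⟨((y : Pg) : G), mem_centralizer_singleton_iff.mpr
          (congrArg Subtype.val (mem_centralizer_singleton_iff.mp y.2))⟩ :
            centralizer ({(x : G)} : Set G))) ?_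
      intro a b e
      exact Subtype.ext (Subtype.ext (congrArg Subtype.val e :))
    calc _ ≤ p ^ f * Nat.card T := Nat.mul_le_mul_right _ hle
      _ = _ := by rw [← hTidx, T.index_mul_card]
  let ρ := Subgroup.normalizerMonoidHom Pg
  have hρ : ∀ (γ : normalizer (Pg : Set G)) (x : Pg),
      ((ρ γ x : Pg) : G) = (γ : G) * x * (γ : G)⁻¹ := fun γ x => rfl
  have hR : RegPair T ρ p :=
    { le := by
        rw [_root_.commutator_def, Subgroup.commutator_le]
        intro a _ b _
        rw [hT, Subgroup.mem_subgroupOf]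
        exact h.comm_mem_K hexp (hPgD a.2) (hPgD b.2)
      ne_top := fun e => by
        have : (⟨g, hgPg⟩ : Pg) ∈ T := e ▸ mem_top _
        exact h.not_mem (Subgroup.mem_subgroupOf.mp this)
      cam := fun x hx => exists_conj_coset (fun s => by
        rw [hT, Subgroup.mem_subgroupOf]
        have := h.comm_mem_K hexp (hPgD (inv_mem x.2)) (hPgD s.2)
        rw [commutatorElement_def, inv_inv] at this
        simpa [mul_assoc] using this) (hcent x hx)
      exp := fun x => by
        rw [hT, Subgroup.mem_subgroupOf]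
        exact hexp x (hPgD x.2)
      inv := fun γ t ht => by
        rw [hT, Subgroup.mem_subgroupOf, hρ]
        exact h.normK.conj_mem _ (Subgroup.mem_subgroupOf.mp ht) _
      trans := fun x y hx hy => by
        have hxK : (x : G) ∉ K := fun e => hx (Subgroup.mem_subgroupOf.mpr e)
        have hyK : (y : G) ∉ K := fun e => hy (Subgroup.mem_subgroupOf.mpr e)
        obtain ⟨s, hs⟩ := isConj_iff.mp ((h.conj x (hPgD x.2) hxK).symm.trans
          (h.conj y (hPgD y.2) hyK))
        have hmem : s ∈ ((normalizer (Pg : Set G) ⊔ D : Subgroup G) : Set G) := by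
          rw [hPg, Sylow.normalizer_sup_eq_top P]; trivial
        rw [Subgroup.mul_normal] at hmem
        obtain ⟨m, hm, d, hd, rfl⟩ := hmem
        refine ⟨⟨m, hm⟩, ?_⟩
        rw [hT, Subgroup.mem_subgroupOf, Subgroup.coe_mul, Subgroup.coe_inv, hρ]
        have h1 := inv_mem (h.normK.conj_mem _ (h.conj_mod hexp hd (hPgD x.2)) m)
        rw [← hs]
        show (m * (x : G) * m⁻¹)⁻¹ * (m * d * (x : G) * (m * d)⁻¹) ∈ K
        simpa [mul_assoc] using h1
      comm := fun γ δ x => by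
        rw [hT, Subgroup.mem_subgroupOf, Subgroup.coe_mul, Subgroup.coe_inv, hρ, hρ]
        have hc : ⁅(γ : G), (δ : G)⁆ ∈ D := h.comm _ _
        have hz : (δ : G) * γ * x * ((δ : G) * γ)⁻¹ ∈ D := h.conj_mem_D (hPgD x.2) _
        have h1 := h.conj_mod hexp hc hz
        simpa [commutatorElement_def, mul_assoc] using h1 }
  obtain ⟨x, hxT, hx⟩ := hR.exists_small_order hPgp
  refine h.isSolvable_of_local hexp hC ?_ P ?_
  · obtain ⟨s, hs⟩ := isConj_iff.mp (h.conj x (hPgD x.2) fun e => hxT (Subgroup.mem_subgroupOf.mpr e))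
    have hxG : (x : G) ^ (if p = 2 then 4 else p) = 1 := by
      rw [← Subgroup.coe_pow, hx]; rfl
    rw [← hs, conj_pow] at hxG
    exact conj_eq_one_iff.mp hxG
  · rintro z ⟨hzK, hzP⟩
    refine ⟨⟨z, hzP⟩, ?_, rfl⟩
    let e : (P : Subgroup D) ≃* Pg :=
      (P : Subgroup D).equivMapOfInjective D.subtype D.subtype_injective
    have hz : e ⟨z, hzP⟩ ∈ T := Subgroup.mem_subgroupOf.mp hzK |> Subgroup.mem_subgroupOf.mpr
    obtain ⟨s, hs⟩ := hR.exists_commutator hxT hz
    refine PGroup.commutator_le_frattini P.2 ?_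
    have : (⟨z, hzP⟩ : (P : Subgroup D)) = ⁅e.symm x⁻¹, e.symm s⁆ := by
      rw [show ⁅e.symm x⁻¹, e.symm s⁆ = e.symm.toMonoidHom ⁅x⁻¹, s⁆ from
        (map_commutatorElement e.symm.toMonoidHom x⁻¹ s).symm, ← hs]
      exact (e.symm_apply_apply _).symm
    rw [this]
    exact commutator_mem_commutator (mem_top _) (mem_top _)

end Cfsg.Agent.OneSeen
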