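/-
The case `|D : K| = 2`.
-/
import Cfsg.Agent.Lib.OneSeen.Basic

set_option autoImplicit false

namespace Cfsg.Agent.OneSeen

open Subgroup
open scoped commutatorElement Pointwise

universe u

/-- If `T` consists of commutators of `g₁` and `g₁` is central modulo `N [T, S]`, then `T ≤ N`. -/
theorem le_of_central {S : Type*} [Group S] [Finite S] [Group.IsNilpotent S] {T N : Subgroup S}
    [T.Normal] [N.Normal] {g₁ : S} (hcos : ∀ t ∈ T, ∃ s, s * g₁ * s⁻¹ = g₁ * t)
    (hcent : ∀ s, ⁅g₁⁻¹, s⁆ ∈ N ⊔ ⁅T, (⊤ : Subgroup S)⁆) : T ≤ N := by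
  have hle : T ≤ N ⊔ ⁅T, (⊤ : Subgroup S)⁆ := by
    intro t ht
    obtain ⟨s, hs⟩ := hcos t ht
    have e : t = ⁅g₁⁻¹, s⁆ := by
      rw [commutatorElement_def, inv_inv,
        show g₁⁻¹ * s * g₁ * s⁻¹ = g₁⁻¹ * (s * g₁ * s⁻¹) by group, hs]
      group
    rw [e]; exact hcent s
  let π := QuotientGroup.mk' N
  have hker : N.map π = ⊥ := by
    rw [Subgroup.map_eq_bot_iff, QuotientGroup.ker_mk']
  have hbot : T.map π = ⊥ := by
    refine eq_bot_of_commutator_eq ?_
    have := Subgroup.map_mono (f := π) hle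
    rwa [Subgroup.map_sup, hker, bot_sup_eq, Subgroup.map_commutator,
      Subgroup.map_top_of_surjective π (QuotientGroup.mk'_surjective N)] at this
  rwa [Subgroup.map_eq_bot_iff, QuotientGroup.ker_mk'] at hbot

variable {G : Type u} [Group G] [Finite G] {D K : Subgroup G} {g : G}

/-- The case `|D : K| = 2`; the last hypothesis excludes abelian `G / D`-degenerate configurations. -/
theorem Data.isSolvable_of_eq_two (h : Data D K g) (hq : K.relIndex D = 2) (ha : 2 < D.index) :
    Group.IsSolvable G := by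
  haveI : Fact (Nat.Prime 2) := ⟨Nat.prime_two⟩
  haveI := h.normK
  haveI := h.normD
  have hexp : ∀ x ∈ D, x ^ 2 ∈ K := by
    intro x hx
    have h1 := (K.subgroupOf D).pow_index_mem ⟨x, hx⟩
    rw [show (K.subgroupOf D).index = 2 from hq] at h1
    exact h1
  have hDK : ∀ {a b : G}, a ∈ D → a ∉ K → b ∈ D → b ∉ K → a⁻¹ * b ∈ K := by
    intro a b ha' hak hb hbk
    by_contra hne
    have h1 : (K.subgroupOf D).index = 2 := hq
    have h2 := (Subgroup.mul_mem_iff_of_index_two h1 (a := ⟨a⁻¹, inv_mem ha'⟩) (b := ⟨b, hb⟩))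
    simp only [Subgroup.mem_subgroupOf, Subgroup.coe_mul, inv_mem_iff] at h2
    exact hne (h2.mpr (by tauto))
  have hcentD : ∀ d ∈ D, ∀ x : G, ⁅x, d⁆ ∈ K := by
    intro d hd x
    by_cases hdK : d ∈ K
    · rw [commutatorElement_def]
      exact mul_mem (h.normK.conj_mem d hdK x) (inv_mem hdK)
    · have hd' : d⁻¹ ∈ D ∧ d⁻¹ ∉ K := ⟨inv_mem hd, fun e => hdK (inv_mem_iff.mp e)⟩
      have h1 := hDK (h.conj_mem_D hd'.1 x) (h.not_mem_conj hd'.2 x) hd'.1 hd'.2
      have : x * d * x⁻¹ * d⁻¹ ∈ K := by simpa [mul_assoc] using h1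
      exact this
  have hsqD : ∀ x : G, x ^ 2 ∈ D := by
    intro x
    refine h.center _ fun y => ?_
    have e : ⁅x ^ 2, y⁆ = ⁅x, ⁅x, y⁆⁆ * ⁅x, y⁆ ^ 2 := by
      simp [commutatorElement_def, pow_two, mul_assoc]
    rw [e]
    exact mul_mem (hcentD _ (h.comm x y) x) (hexp _ (h.comm x y))
  have hfour : ∀ x : G, x ^ 4 ∈ K := fun x => by
    rw [show (4 : ℕ) = 2 * 2 from rfl, pow_mul]; exact hexp _ (hsqD x)
  have hqp : IsPGroup 2 (G ⧸ K) := by
    intro v
    induction v using QuotientGroup.induction_on with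
    | _ x =>
      refine ⟨2, ?_⟩
      rw [show 2 ^ 2 = 4 from rfl, ← QuotientGroup.mk_pow, QuotientGroup.eq_one_iff]
      exact hfour x
  obtain ⟨n, hn⟩ := IsPGroup.iff_card.mp hqp
  have hidx : K.index = 2 ^ n := hn
  have hcard : Nat.card (centralizer ({g} : Set G)) = D.index * 2 := by
    have := h.card
    rw [hq] at this
    simpa using this
  have hGK : D.index * 2 = 2 ^ n := by
    rw [← hidx, ← Subgroup.relIndex_mul_index h.le, hq, mul_comm]
  have hC : IsPGroup 2 (centralizer ({g} : Set G)) := IsPGroup.of_card (hcard.trans hGK)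
  obtain ⟨k, hk⟩ := h.isPGroup_g hexp
  obtain ⟨P, hgP⟩ := (IsPGroup.of_card (G := zpowers (⟨g, h.mem⟩ : D)) (n := k)
    (by rw [Nat.card_zpowers, ← Subgroup.orderOf_coe, hk])).exists_le_sylow
  obtain ⟨S, hPS⟩ := (P.2.map D.subtype).exists_le_sylow
  have hgS : g ∈ (S : Subgroup G) := hPS ⟨⟨g, h.mem⟩, hgP (mem_zpowers _), rfl⟩
  have hSD : (S : Subgroup G).subgroupOf D = (P : Subgroup D) :=
    P.3 (S.2.comap_subtype) fun x hx => hPS ⟨x, hx, rfl⟩
  set T := K.subgroupOf (S : Subgroup G) with hT
  haveI : T.Normal := h.normK.subgroupOf _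
  haveI : Group.IsNilpotent (S : Subgroup G) := S.2.isNilpotent
  have hSK : (S : Subgroup G) ⊔ K = ⊤ := by
    rw [← Subgroup.index_eq_one]
    refine Nat.eq_one_of_dvd_coprimes (a := 2 ^ n) ?_ ?_
      (Subgroup.index_dvd_of_le (le_sup_left : (S : Subgroup G) ≤ (S : Subgroup G) ⊔ K))
    · exact (Nat.prime_two.coprime_iff_not_dvd.mpr S.not_dvd_index).pow_left n
    · exact hidx ▸ Subgroup.index_dvd_of_le (le_sup_right : K ≤ (S : Subgroup G) ⊔ K)
  have hrep : ∀ x : G, ∃ y ∈ (S : Subgroup G), y⁻¹ * x ∈ K := by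
    intro x
    have hx : x ∈ ((S : Subgroup G) : Set G) * (K : Set G) := by
      rw [← Subgroup.mul_normal, hSK]; trivial
    obtain ⟨y, hy, z, hz, rfl⟩ := hx
    exact ⟨y, hy, by rw [inv_mul_cancel_left]; exact hz⟩
  have hTidx : T.index = 2 ^ n := by
    show K.relIndex (S : Subgroup G) = 2 ^ n
    rw [← Subgroup.relIndex_sup_right (H := (S : Subgroup G)) (K := K), hSK,
      Subgroup.relIndex_top_right, hidx]
  have hcentG : ∀ x ∈ D, x ∉ K → Nat.card (centralizer ({x} : Set G)) = 2 ^ n := by
    intro x hx hxK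
    have hc := h.conj x hx hxK
    have h1 := ClassIndex.natCard_conjSet_mul g
    have h2 := ClassIndex.natCard_conjSet_mul x
    have e : Nat.card {y : G // ∃ s, s * x * s⁻¹ = y} = Nat.card {y : G // ∃ s, s * g * s⁻¹ = y} :=
      Nat.card_congr (Equiv.subtypeEquivRight fun y => by
        rw [← isConj_iff, ← isConj_iff]; exact ⟨hc.trans, hc.symm.trans⟩)
    rw [e] at h2
    haveI : Nonempty {y : G // ∃ s, s * g * s⁻¹ = y} := ⟨⟨g, 1, by simp⟩⟩
    rw [← hGK, ← hcard]
    exact Nat.eq_of_mul_eq_mul_left Nat.card_pos (h2.trans h1.symm)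
  have hcos : ∀ g₁ : (S : Subgroup G), (g₁ : G) ∈ D → (g₁ : G) ∉ K →
      ∀ t ∈ T, ∃ s, s * g₁ * s⁻¹ = g₁ * t := by
    intro g₁ hD hK
    refine exists_conj_coset (fun s => ?_) ?_
    · rw [hT, Subgroup.mem_subgroupOf]
      have h1 := inv_mem (hcentD _ (inv_mem hD) (s : G))
      rw [commutatorElement_def, inv_inv] at h1
      simpa [mul_assoc] using h1
    · have hle : Nat.card (centralizer ({g₁} : Set (S : Subgroup G))) ≤ 2 ^ n := by
        rw [← hcentG _ hD hK]
        refine Nat.card_le_card_of_injective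
          (fun y => (⟨((y : (S : Subgroup G)) : G), mem_centralizer_singleton_iff.mpr
            (congrArg Subtype.val (mem_centralizer_singleton_iff.mp y.2))⟩ :
              centralizer ({(g₁ : G)} : Set G))) ?_
        intro a b e
        exact Subtype.ext (Subtype.ext (congrArg Subtype.val e :))
      calc _ ≤ 2 ^ n * Nat.card T := Nat.mul_le_mul_right _ hle
        _ = _ := by rw [← hTidx, T.index_mul_card]
  -- an element whose square lies in `D \ K`
  obtain ⟨u, huS, hu⟩ : ∃ u ∈ (S : Subgroup G), u ^ 2 ∉ K := by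
    by_contra hh
    have hsq : ∀ x : G, x ^ 2 ∈ K := by
      intro x
      obtain ⟨y, hy, hyx⟩ := hrep x
      have hy2 : y ^ 2 ∈ K := by
        by_contra hne; exact hh ⟨y, hy, hne⟩
      rw [← QuotientGroup.eq_one_iff, QuotientGroup.mk_pow, ← QuotientGroup.eq.mpr hyx,
        ← QuotientGroup.mk_pow, QuotientGroup.eq_one_iff]
      exact hy2
    have hab : ∀ x y : G, ⁅x, y⁆ ∈ K := by
      intro x y
      have e : ∀ z : G ⧸ K, z⁻¹ = z := by
        intro z
        induction z using QuotientGroup.induction_on with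
        | _ w =>
          rw [inv_eq_iff_mul_eq_one, ← pow_two, ← QuotientGroup.mk_pow, QuotientGroup.eq_one_iff]
          exact hsq w
      rw [← QuotientGroup.eq_one_iff]
      show QuotientGroup.mk' K ⁅x, y⁆ = 1
      rw [map_commutatorElement, commutatorElement_def, e, e, mul_assoc (_ * _)]
      have h1 := e (QuotientGroup.mk' K x * QuotientGroup.mk' K y)
      rw [inv_eq_iff_mul_eq_one] at h1
      rwa [← mul_assoc] at h1 ⊢
    have htop : ∀ x : G, x ∈ D := fun x => h.center x fun y => hab x y
    have : D = ⊤ := eq_top_iff.mpr fun x _ => htop x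
    rw [this, Subgroup.index_top] at ha
    omega
  set g₁ := u ^ 2 with hg₁
  have hg₁D : g₁ ∈ D := hsqD u
  have hg₁S : g₁ ∈ (S : Subgroup G) := pow_mem huS 2
  have hug : Commute u g₁ := (Commute.refl u).pow_right 2
  have hord : orderOf g₁ = orderOf g := by
    obtain ⟨s, hs⟩ := isConj_iff.mp (h.conj g₁ hg₁D hu)
    rw [← hs]; exact (MulAut.conj s).orderOf_eq g
  -- the case split on `|G / D|`
  let N : Subgroup (S : Subgroup G) :=
    ((frattini P).map (P : Subgroup D).subtype).map D.subtype |>.subgroupOf (S : Subgroup G)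
  have hPmap : (P : Subgroup D).map D.subtype = (S : Subgroup G) ⊓ D := by
    rw [← hSD, Subgroup.subgroupOf_map_subtype]
  have hpowP : ∀ z ∈ (S : Subgroup G), z ∈ D →
      z ^ 2 ∈ ((frattini P).map (P : Subgroup D).subtype).map D.subtype := by
    intro z hz hzD
    have hzP : (⟨z, hzD⟩ : D) ∈ (P : Subgroup D) := by
      rw [← hSD, Subgroup.mem_subgroupOf]; exact hz
    exact ⟨_, ⟨_, PGroup.pow_mem_frattini P.2 ⟨⟨z, hzD⟩, hzP⟩, rfl⟩, rfl⟩
  haveI hNn : N.Normal := by
    refine ⟨fun x hx s => ?_⟩
    rw [Subgroup.mem_subgroupOf] at hx ⊢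
    obtain ⟨y, ⟨z, hz, rfl⟩, hzx⟩ := hx
    have hs : (s : G) ∈ normalizer (((P : Subgroup D).map D.subtype : Subgroup G) : Set G) := by
      rw [hPmap, Subgroup.mem_normalizer_iff]
      intro w
      constructor
      · exact fun hw => Subgroup.mem_inf.mpr ⟨(S : Subgroup G).mul_mem
          ((S : Subgroup G).mul_mem s.2 hw.1) ((S : Subgroup G).inv_mem s.2),
          h.conj_mem_D hw.2 _⟩
      · intro hw
        have h1 : (s : G)⁻¹ * ((s : G) * w * (s : G)⁻¹) * (s : G) ∈ (S : Subgroup G) :=
          (S : Subgroup G).mul_mem ((S : Subgroup G).mul_mem ((S : Subgroup G).inv_mem s.2) hw.1) s.2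
        have h2 := h.conj_mem_D hw.2 (s : G)⁻¹
        have e : (s : G)⁻¹ * ((s : G) * w * (s : G)⁻¹) * (s : G) = w := by group
        rw [e] at h1
        rw [inv_inv, e] at h2
        exact Subgroup.mem_inf.mpr ⟨h1, h2⟩
    let e := (P : Subgroup D).equivMapOfInjective D.subtype D.subtype_injective
    let c : MulAut P := (e.trans (Subgroup.normalizerMonoidHom _ ⟨s, hs⟩)).trans e.symm
    have hc : c z ∈ frattini P :=
      (Subgroup.characteristic_iff_map_le.mp (frattini_characteristic (G := P)) c)
        (mem_map_of_mem _ hz)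
    have hce : D.subtype ((P : Subgroup D).subtype (c z)) =
        (s : G) * ((x : G)) * (s : G)⁻¹ := by
      show ((e (c z) : ((P : Subgroup D).map D.subtype : Subgroup G)) : G) = _
      simp only [c, MulEquiv.trans_apply, MulEquiv.apply_symm_apply]
      rw [← hzx]
      rfl
    exact ⟨_, ⟨c z, hc, rfl⟩, hce⟩
  set g₁' : (S : Subgroup G) := ⟨g₁, hg₁S⟩ with hg₁'
  let π : (S : Subgroup G) →* (S : Subgroup G) ⧸ (N ⊔ ⁅T, (⊤ : Subgroup (S : Subgroup G))⁆) :=
    QuotientGroup.mk' _
  have hπT : ∀ t ∈ T, ∀ z, Commute (π t) z := by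
    intro t ht z
    obtain ⟨z, rfl⟩ := QuotientGroup.mk'_surjective _ z
    rw [← commutatorElement_eq_one_iff_commute, ← map_commutatorElement]
    exact (QuotientGroup.eq_one_iff _).mpr
      (Subgroup.mem_sup_right (commutator_mem_commutator ht (mem_top z)))
  have hT' : ∀ x : (S : Subgroup G), (x : G) ∈ K → x ∈ T := fun x hx => Subgroup.mem_subgroupOf.mpr hx
  -- it suffices that `g₁` is central modulo `N [T, S]`
  suffices hmain : (∀ z : (S : Subgroup G), Commute (π g₁') (π z)) ∧ g ^ 4 = 1 by
    refine h.isSolvable_of_local hexp hC (by rw [if_pos rfl]; exact hmain.2) P ?_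
    have hTN : T ≤ N := by
      refine le_of_central (hcos g₁' hg₁D hu) fun s => ?_
      refine (QuotientGroup.eq_one_iff _).mp ?_
      show π ⁅g₁'⁻¹, s⁆ = 1
      rw [map_commutatorElement, commutatorElement_eq_one_iff_commute, map_inv]
      exact (hmain.1 s).inv_left
    rintro z ⟨hzK, hzP⟩
    have hzS : (z : G) ∈ (S : Subgroup G) := hPS ⟨z, hzP, rfl⟩
    have := hTN (hT' ⟨z, hzS⟩ (Subgroup.mem_subgroupOf.mp hzK))
    obtain ⟨y, hy, hyz⟩ := Subgroup.mem_subgroupOf.mp this
    have : y = z := Subtype.ext hyz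
    exact this ▸ hy
  rcases Nat.lt_or_ge 4 D.index with ha4 | ha4
  · -- `g₁` is central modulo any `[T, S]`
    have key : ∀ z : (S : Subgroup G), ∀ {L : Subgroup (S : Subgroup G)} [L.Normal],
        (∀ t ∈ T, ∀ w, ⁅t, w⁆ ∈ L) → ⁅g₁', z⁆ ∈ L := by
      intro z L _ hL
      obtain ⟨x, y, hxS, hyS, hxz, hyz, hxy⟩ : ∃ x y : G, x ∈ (S : Subgroup G) ∧
          y ∈ (S : Subgroup G) ∧ ⁅(z : G), x⁆ ∈ K ∧ ⁅(z : G), y⁆ ∈ K ∧ ⁅x, y⁆ ∉ K := by
        let q := QuotientGroup.mk' K
        set A := centralizer ({q (z : G)} : Set (G ⧸ K)) with hA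
        have hqc : ∀ a b : G, ⁅a, b⁆ ∈ K ↔ Commute (q a) (q b) := fun a b => by
          rw [← commutatorElement_eq_one_iff_commute, ← map_commutatorElement]
          exact (QuotientGroup.eq_one_iff _).symm
        by_contra hh
        have hab : ∀ a ∈ A, ∀ b ∈ A, Commute a b := by
          intro a ha' b hb'
          obtain ⟨a₀, rfl⟩ := QuotientGroup.mk'_surjective K a
          obtain ⟨b₀, rfl⟩ := QuotientGroup.mk'_surjective K b
          obtain ⟨a₁, ha₁, hae⟩ := hrep a₀
          obtain ⟨b₁, hb₁, hbe⟩ := hrep b₀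
          have ea : q a₁ = q a₀ := QuotientGroup.eq.mpr hae
          have eb : q b₁ = q b₀ := QuotientGroup.eq.mpr hbe
          have h1 : Commute (q a₀) (q z) := mem_centralizer_singleton_iff.mp ha'
          have h2 : Commute (q b₀) (q z) := mem_centralizer_singleton_iff.mp hb'
          show Commute (q a₀) (q b₀)
          rw [← ea, ← eb, ← hqc]
          by_contra hne
          exact hh ⟨a₁, b₁, ha₁, hb₁, (hqc _ _).mpr (ea ▸ h1.symm),
            (hqc _ _).mpr (eb ▸ h2.symm), hne⟩
        have hV : ∀ a b : G ⧸ K, ⁅a, b⁆ = 1 ∨ ⁅a, b⁆ = q g := by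
          intro a b
          obtain ⟨a, rfl⟩ := QuotientGroup.mk'_surjective K a
          obtain ⟨b, rfl⟩ := QuotientGroup.mk'_surjective K b
          rw [← map_commutatorElement]
          by_cases hk' : ⁅a, b⁆ ∈ K
          · exact Or.inl ((QuotientGroup.eq_one_iff _).mpr hk')
          · exact Or.inr (QuotientGroup.eq.mpr (hDK (h.comm a b) hk' h.mem h.not_mem))
        have hAidx : A.index ≤ 2 := by
          rw [index_eq_card_range A (fun s => ⁅s, q (z : G)⁆) ?_]
          · refine (Nat.card_mono (Set.toFinite {1, q g}) ?_).trans ?_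
            · rintro _ ⟨s, rfl⟩; exact hV s _
            · rw [Nat.card_coe_set_eq]
              exact (Set.ncard_insert_le _ _).trans (by rw [Set.ncard_singleton])
          · intro a b
            rw [commutatorElement_def, commutatorElement_def, mul_left_inj, hA,
              mem_centralizer_singleton_iff]
            constructor
            · intro e
              calc a⁻¹ * b * q z = a⁻¹ * (b * q z * b⁻¹) * b := by group
                _ = a⁻¹ * (a * q z * a⁻¹) * b := by rw [e]
                _ = q z * (a⁻¹ * b) := by group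
            · intro e
              calc a * q z * a⁻¹ = a * (q z * (a⁻¹ * b)) * b⁻¹ := by group
                _ = a * (a⁻¹ * b * q z) * b⁻¹ := by rw [e]
                _ = b * q z * b⁻¹ := by group
        have hZD : ∀ c : G ⧸ K, (∀ y, Commute c y) → c = 1 ∨ c = q g := by
          intro c hc
          obtain ⟨c, rfl⟩ := QuotientGroup.mk'_surjective K c
          have hcD : c ∈ D := h.center c fun y => (hqc c y).mpr (hc _)
          by_cases hk' : c ∈ K
          · exact Or.inl ((QuotientGroup.eq_one_iff _).mpr hk')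
          · exact Or.inr (QuotientGroup.eq.mpr (hDK hcD hk' h.mem h.not_mem))
        have hsmall : Nat.card (G ⧸ K) ≤ 8 := by
          by_cases hAt : A = ⊤
          · have hall : ∀ x : G, x ∈ D := fun x => h.center x fun y =>
              (hqc x y).mpr (hab _ (hAt ▸ mem_top _) _ (hAt ▸ mem_top _))
            have : D.index = 1 :=
              Subgroup.index_eq_one.mpr (eq_top_iff.mpr fun x _ => hall x)
            omega
          · obtain ⟨w, hw⟩ : ∃ w, w ∉ A := by
              by_contra h'; rw [not_exists] at h'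
              exact hAt (eq_top_iff.mpr fun x _ => not_not.mp (h' x))
            let B : Subgroup (G ⧸ K) := A ⊓ centralizer {w}
            have hB : (B.subgroupOf A).index ≤ 2 := by
              rw [index_eq_card_range (B.subgroupOf A) (fun s : A => ⁅(s : G ⧸ K), w⁆) ?_]
              · refine (Nat.card_mono (Set.toFinite {1, q g}) ?_).trans ?_
                · rintro _ ⟨s, rfl⟩; exact hV _ _
                · rw [Nat.card_coe_set_eq]
                  exact (Set.ncard_insert_le _ _).trans (by rw [Set.ncard_singleton])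
              · intro a b
                rw [Subgroup.mem_subgroupOf, commutatorElement_def, commutatorElement_def,
                  mul_left_inj, Subgroup.mem_inf, Subgroup.coe_mul, Subgroup.coe_inv]
                constructor
                · intro e
                  refine ⟨mul_mem (inv_mem a.2) b.2, mem_centralizer_singleton_iff.mpr ?_⟩
                  calc (a : G ⧸ K)⁻¹ * b * w = (a : G ⧸ K)⁻¹ * ((b : G ⧸ K) * w * (b : G ⧸ K)⁻¹) * b := by
                        group
                    _ = (a : G ⧸ K)⁻¹ * ((a : G ⧸ K) * w * (a : G ⧸ K)⁻¹) * b := by rw [e]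
                    _ = w * ((a : G ⧸ K)⁻¹ * b) := by group
                · rintro ⟨-, e'⟩
                  have e := mem_centralizer_singleton_iff.mp e'
                  calc (a : G ⧸ K) * w * (a : G ⧸ K)⁻¹
                      = (a : G ⧸ K) * (w * ((a : G ⧸ K)⁻¹ * b)) * (b : G ⧸ K)⁻¹ := by group
                    _ = (a : G ⧸ K) * ((a : G ⧸ K)⁻¹ * b * w) * (b : G ⧸ K)⁻¹ := by rw [e]
                    _ = (b : G ⧸ K) * w * (b : G ⧸ K)⁻¹ := by group
            -- `B` is central
            have hBc : ∀ c ∈ B, ∀ y, Commute c y := by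
              intro c hc y
              have hCA : A < A ⊔ zpowers w :=
                lt_of_le_of_ne le_sup_left fun e =>
                  hw (e ▸ Subgroup.mem_sup_right (mem_zpowers w))
              have htop : A ⊔ zpowers w = ⊤ := by
                rw [← Subgroup.index_eq_one]
                have h1 := Subgroup.relIndex_mul_index hCA.le
                have h2 : A.relIndex (A ⊔ zpowers w) ≠ 1 := fun e =>
                  hCA.not_ge (Subgroup.relIndex_eq_one.mp e)
                have h3 : (A ⊔ zpowers w).index ≠ 0 := Subgroup.index_ne_zero_of_finite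
                have h4 : A.relIndex (A ⊔ zpowers w) ≠ 0 := Subgroup.index_ne_zero_of_finite
                have h5 : 2 * (A ⊔ zpowers w).index ≤ A.relIndex (A ⊔ zpowers w) * (A ⊔ zpowers w).index :=
                  Nat.mul_le_mul_right _ (by omega)
                omega
              have hle : A ⊔ zpowers w ≤ centralizer ({c} : Set (G ⧸ K)) := by
                refine sup_le (fun a ha' => mem_centralizer_singleton_iff.mpr (hab a ha' c hc.1).eq)
                  (zpowers_le.mpr (mem_centralizer_singleton_iff.mpr ?_))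
                exact (mem_centralizer_singleton_iff.mp hc.2).symm
              exact (mem_centralizer_singleton_iff.mp (hle (htop ▸ mem_top y))).symm
            have hBcard : Nat.card B ≤ 2 := by
              refine le_trans (Nat.card_mono (Set.toFinite {1, q g}) fun c hc => hZD c (hBc c hc)) ?_
              rw [Nat.card_coe_set_eq]
              exact (Set.ncard_insert_le _ _).trans (by rw [Set.ncard_singleton])
            have h1 := A.index_mul_card
            have h2 := (B.subgroupOf A).index_mul_card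
            rw [show Nat.card (B.subgroupOf A) = Nat.card B from
              Nat.card_congr (Subgroup.subgroupOfEquivOfLe inf_le_left).toEquiv] at h2
            rw [← h2] at h1
            rw [← h1]
            calc A.index * ((B.subgroupOf A).index * Nat.card B) ≤ 2 * (2 * 2) :=
                  Nat.mul_le_mul hAidx (Nat.mul_le_mul hB hBcard)
              _ = 8 := by norm_num
        have : K.index ≤ 8 := hsmall
        rw [← Subgroup.relIndex_mul_index h.le, hq] at this
        omega
      let φ := QuotientGroup.mk' L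
      have hφ : ∀ t ∈ T, ∀ v, Commute (φ t) v := by
        intro t ht v
        obtain ⟨v, rfl⟩ := QuotientGroup.mk'_surjective L v
        rw [← commutatorElement_eq_one_iff_commute, ← map_commutatorElement]
        exact (QuotientGroup.eq_one_iff _).mpr (hL t ht v)
      set x' : (S : Subgroup G) := ⟨x, hxS⟩ with hx'
      set y' : (S : Subgroup G) := ⟨y, hyS⟩ with hy'
      have hzx : φ z * φ x' * (φ z)⁻¹ = φ ⁅z, x'⁆ * φ x' := by
        rw [map_commutatorElement, commutatorElement_def]; group
      have hzy : φ z * φ y' * (φ z)⁻¹ = φ ⁅z, y'⁆ * φ y' := by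
        rw [map_commutatorElement, commutatorElement_def]; group
      have hfix : φ z * ⁅φ x', φ y'⁆ * (φ z)⁻¹ = ⁅φ x', φ y'⁆ := by
        have := map_commutatorElement (MulAut.conj (φ z)).toMonoidHom (φ x') (φ y')
        simp only [MulEquiv.coe_toMonoidHom, MulAut.conj_apply] at this
        rw [this, hzx, hzy]
        exact commutator_central_mul (hφ _ (hT' _ hxz)) (hφ _ (hT' _ hyz)) _ _
      have hgt : ⁅x', y'⁆⁻¹ * g₁' ∈ T := hT' _ (hDK (h.comm x y) hxy hg₁D hu)
      have : Commute (φ g₁') (φ z) := by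
        have h1 : Commute ⁅φ x', φ y'⁆ (φ z) := (mul_inv_eq_iff_eq_mul.mp hfix).symm
        have h2 : φ g₁' = ⁅φ x', φ y'⁆ * φ (⁅x', y'⁆⁻¹ * g₁') := by
          rw [← map_commutatorElement, ← map_mul, mul_inv_cancel_left]
        rw [h2]
        exact h1.mul_left (hφ _ hgt _)
      rw [← commutatorElement_eq_one_iff_commute, ← map_commutatorElement] at this
      exact (QuotientGroup.eq_one_iff _).mp this
    have hTbot : T = ⊥ := by
      refine le_bot_iff.mp (le_of_central (hcos g₁' hg₁D hu) fun s => ?_)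
      have hk' : ⁅g₁', s⁆ ∈ (⊥ : Subgroup (S : Subgroup G)) ⊔ ⁅T, (⊤ : Subgroup (S : Subgroup G))⁆ :=
        key s fun t ht w => Subgroup.mem_sup_right (commutator_mem_commutator ht (mem_top w))
      have := inv_mem ((inferInstance : (((⊥ : Subgroup (S : Subgroup G)) ⊔
        ⁅T, (⊤ : Subgroup (S : Subgroup G))⁆)).Normal).conj_mem _ hk' g₁'⁻¹)
      have e : ⁅g₁'⁻¹, s⁆ = (g₁'⁻¹ * ⁅g₁', s⁆ * g₁'⁻¹⁻¹)⁻¹ := by
        simp [commutatorElement_def, mul_assoc]
      rw [e]; exact this
    refine ⟨fun z => ?_, ?_⟩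
    · rw [← commutatorElement_eq_one_iff_commute, ← map_commutatorElement]
      exact (QuotientGroup.eq_one_iff _).mpr
        (key z fun t ht w => Subgroup.mem_sup_right (commutator_mem_commutator ht (mem_top w)))
    · have : (⟨g ^ 2, pow_mem hgS 2⟩ : (S : Subgroup G)) ∈ T := hT' _ (hexp g h.mem)
      rw [hTbot, mem_bot] at this
      rw [show (4 : ℕ) = 2 * 2 from rfl, pow_mul, show g ^ 2 = 1 from congrArg Subtype.val this,
        one_pow]
  · -- `|G / K| = 8`
    have hn8 : 2 ^ n = 8 := by
      have hlt : 2 ^ 2 < 2 ^ n := by rw [← hGK]; omega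
      have h1 := (Nat.pow_lt_pow_iff_right (by norm_num : 1 < 2)).mp hlt
      have h2 : 2 ^ n ≤ 2 ^ 3 := by rw [← hGK]; omega
      have h3 := (Nat.pow_le_pow_iff_right (by norm_num : 1 < 2)).mp h2
      rw [show n = 3 by omega]; norm_num
    refine ⟨?_, ?_⟩
    swap
    · -- order of `g`
      have hud : orderOf u ∣ 8 := by
        have hle : zpowers u ≤ centralizer ({g₁} : Set G) :=
          zpowers_le.mpr (mem_centralizer_singleton_iff.mpr hug.eq)
        have := Subgroup.card_dvd_of_le hle
        rwa [Nat.card_zpowers, hcentG g₁ hg₁D hu, hn8] at this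
      have h4 : g₁ ^ 4 = 1 := by
        rw [hg₁, ← pow_mul]; exact orderOf_dvd_iff_pow_eq_one.mp hud
      rw [← orderOf_dvd_iff_pow_eq_one, ← hord]
      exact orderOf_dvd_of_pow_eq_one h4
    -- `G / K` is generated by `u` and any `w` not commuting with it
    let q := QuotientGroup.mk' K
    have hqK : ∀ a, q a = 1 ↔ a ∈ K := fun a => QuotientGroup.eq_one_iff a
    obtain ⟨w, hwS, hw⟩ : ∃ w ∈ (S : Subgroup G), ⁅w, u⁆ ∉ K := by
      by_contra hh
      have huD : u ∈ D := h.center u fun y => by
        obtain ⟨y', hy', he⟩ := hrep y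
        have hy'u : ⁅y', u⁆ ∈ K := by
          by_contra hne; exact hh ⟨y', hy', hne⟩
        have e : q y' = q y := QuotientGroup.eq.mpr he
        rw [← hqK, map_commutatorElement, ← e, ← map_commutatorElement, hqK]
        have := inv_mem hy'u
        rwa [commutatorElement_inv] at this
      exact hu (hexp u huD)
    set u' : (S : Subgroup G) := ⟨u, huS⟩ with hu'
    set w' : (S : Subgroup G) := ⟨w, hwS⟩ with hw'
    have hgh : ⁅w', u'⁆⁻¹ * g₁' ∈ T := hT' _ (hDK (h.comm w u) hw hg₁D hu)
    have hπg : π g₁' = ⁅π w', π u'⁆ * π (⁅w', u'⁆⁻¹ * g₁') := by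
      rw [← map_commutatorElement, ← map_mul, mul_inv_cancel_left]
    have hgu : Commute (π g₁') (π u') := by
      have : Commute g₁' u' := Subtype.ext hug.symm.eq
      exact this.map π
    have hgw : Commute (π g₁') (π w') := by
      by_cases hw2 : w ^ 2 ∈ K
      · -- `w²` is central modulo `N [T, S]`
        have hc : Commute ((π w') ^ 2) (π u') := by
          rw [← map_pow]; exact hπT _ (hT' _ hw2) _
        set hh := ⁅π w', π u'⁆ with hhdef
        have h1 : π w' * hh * (π w')⁻¹ = hh⁻¹ := by
          have := commutatorElement_eq_one_iff_commute.mpr hc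
          have e : ⁅(π w') ^ 2, π u'⁆ = π w' * hh * (π w')⁻¹ * hh := by
            simp [hhdef, commutatorElement_def, pow_two, mul_assoc]
          rw [e] at this
          exact eq_inv_of_mul_eq_one_left this
        have hsq : ∀ y : (S : Subgroup G), (y : G) ∈ D → (π y) ^ 2 = 1 := fun y hy => by
          rw [← map_pow]
          exact (QuotientGroup.eq_one_iff _).mpr (Subgroup.mem_sup_left
            (Subgroup.mem_subgroupOf.mpr (hpowP _ y.2 hy)))
        have h2 : hh⁻¹ = hh := by
          rw [inv_eq_iff_mul_eq_one, ← pow_two, hhdef, ← map_commutatorElement]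
          exact hsq _ (h.comm w u)
        rw [h2] at h1
        have h3 : Commute hh (π w') := (mul_inv_eq_iff_eq_mul.mp h1).symm
        rw [hπg]
        exact h3.mul_left (hπT _ hgh _)
      · have : (w' ^ 2)⁻¹ * g₁' ∈ T := hT' _ (hDK (hsqD w) hw2 hg₁D hu)
        have e : π g₁' = (π w') ^ 2 * π ((w' ^ 2)⁻¹ * g₁') := by
          rw [← map_pow, ← map_mul, mul_inv_cancel_left]
        rw [e]
        exact ((Commute.refl (π w')).pow_left 2).mul_left (hπT _ this _)
    intro z
    -- write `z` modulo `K` in terms of `u` and `w`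
    have hCu : centralizer ({q u} : Set (G ⧸ K)) ⊔ zpowers (q w) = ⊤ ∧
        centralizer ({q u} : Set (G ⧸ K)) ≤ zpowers (q u) := by
      set A := centralizer ({q u} : Set (G ⧸ K)) with hA
      have hou : orderOf (q u) = 4 := by
        refine orderOf_eq_prime_pow (p := 2) (n := 1) ?_ ?_
        · rw [show 2 ^ 1 = 2 from rfl, ← map_pow, hqK]; exact hu
        · rw [show 2 ^ (1 + 1) = 4 from rfl, ← map_pow, hqK]; exact hfour u
      have hle : zpowers (q u) ≤ A :=
        zpowers_le.mpr (mem_centralizer_singleton_iff.mpr rfl)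
      have hwA : q w ∉ A := fun e => by
        have h0 : Commute (q w) (q u) := mem_centralizer_singleton_iff.mp e
        rw [← commutatorElement_eq_one_iff_commute, ← map_commutatorElement, hqK] at h0
        exact hw h0
      have hcardA : Nat.card A = 4 := by
        have h1 : 4 ∣ Nat.card A := by
          rw [← hou, ← Nat.card_zpowers]; exact Subgroup.card_dvd_of_le hle
        have h2 : Nat.card A ∣ 8 := by
          rw [← hn8, ← hn]; exact A.card_subgroup_dvd_card
        have h3 : Nat.card A ≠ 8 := fun e => hwA (by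
          have : A = ⊤ := Subgroup.eq_top_of_card_eq _ (by rw [e, hn, hn8])
          rw [this]; exact mem_top _)
        have := Nat.le_of_dvd (by norm_num) h2
        interval_cases hh' : Nat.card A <;> omega
      constructor
      · refine Subgroup.eq_top_of_card_eq _ ?_
        have h1 : Nat.card A ∣ Nat.card (A ⊔ zpowers (q w) : Subgroup (G ⧸ K)) :=
          Subgroup.card_dvd_of_le le_sup_left
        have h2 := (A ⊔ zpowers (q w)).card_subgroup_dvd_card
        rw [hn, hn8] at h2 ⊢
        rw [hcardA] at h1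
        have h3 : Nat.card (A ⊔ zpowers (q w) : Subgroup (G ⧸ K)) ≠ 4 := fun e => hwA (by
          have := Subgroup.eq_of_le_of_card_ge (le_sup_left : A ≤ A ⊔ zpowers (q w))
            (by rw [e, hcardA])
          rw [this]; exact Subgroup.mem_sup_right (mem_zpowers _))
        have := Nat.le_of_dvd (by norm_num) h2
        interval_cases hh' : Nat.card (A ⊔ zpowers (q w) : Subgroup (G ⧸ K)) <;> omega
      · exact (Subgroup.eq_of_le_of_card_ge hle (by rw [Nat.card_zpowers, hou, hcardA])).ge
    let Z : Subgroup (G ⧸ K) :=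
      ((centralizer ({π g₁'} : Set _)).comap π).map (q.comp (S : Subgroup G).subtype)
    have hZtop : (⊤ : Subgroup (G ⧸ K)) ≤ Z := by
      rw [← hCu.1]
      refine sup_le (hCu.2.trans (zpowers_le.mpr ?_)) (zpowers_le.mpr ?_)
      · exact ⟨u', mem_centralizer_singleton_iff.mpr hgu.symm.eq, rfl⟩
      · exact ⟨w', mem_centralizer_singleton_iff.mpr hgw.symm.eq, rfl⟩
    obtain ⟨z₀, hz₀, e⟩ := hZtop (mem_top (q (z : G)))
    have e' : ((z₀ : (S : Subgroup G)) : G ⧸ K) = ((z : G) : G ⧸ K) := e
    have ht : z₀⁻¹ * z ∈ T := hT' _ (QuotientGroup.eq.mp e')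
    have h0 : Commute (π z₀) (π g₁') := mem_centralizer_singleton_iff.mp hz₀
    have := h0.symm.mul_right (hπT _ ht (π g₁')).symm
    rwa [← map_mul, mul_inv_cancel_left] at this

end Cfsg.Agent.OneSeen
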