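/-
Solvability from the local data.
-/
import Cfsg.Agent.Lib.OneSeen.Odd
import Cfsg.Agent.Lib.OneSeen.Two

set_option autoImplicit false

namespace Cfsg.Agent.OneSeen

universe u

variable {G : Type u} [Group G] [Finite G] {D K : Subgroup G} {g : G}

theorem Data.isSolvable (h : Data D K g) (ha : K.relIndex D = 2 → 2 < D.index) :
    Group.IsSolvable G := by
  obtain ⟨p, hp, hexp⟩ := h.exists_prime
  haveI := Fact.mk hp
  have h1 : K.relIndex D ≠ 1 := fun e => h.not_mem (Subgroup.relIndex_eq_one.mp e h.mem)
  have h0 : K.relIndex D ≠ 0 := Subgroup.index_ne_zero_of_finite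
  rcases Nat.lt_or_ge 2 (K.relIndex D) with h2 | h2
  · exact h.isSolvable_of_gt_two hexp h2
  · have : K.relIndex D = 2 := by omega
    exact h.isSolvable_of_eq_two this (ha this)

end Cfsg.Agent.OneSeen
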